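import Groth.Agent.Sga2lef.H102.TwSec

/-!
# Bijectivity of `H^i(F) → lim H^i(Q_n)` from pro-vanishing of the kernels
-/

set_option autoImplicit false
universe u

open CategoryTheory CategoryTheory.Limits AlgebraicGeometry Opposite TopologicalSpace

namespace K183.BijProzero

open Groth.Agent.VarietyA.EulerLES Groth.Agent.Sga2 Groth.Agent.Sga2lef.H102.TwSec

variable {X : Scheme.{u}} {F : X.Modules} {Q : ℕ → X.Modules} (t : ∀ n, Q (n + 1) ⟶ Q n)
  (p : ∀ n, F ⟶ Q n) (hp : ∀ n, p (n + 1) ≫ t n = p n) (hepi : ∀ n, Epi (p n))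

/-- The transition maps. -/
noncomputable def tt (m : ℕ) : ∀ d : ℕ, Q (m + d) ⟶ Q m
  | 0 => 𝟙 _
  | d + 1 => t (m + d) ≫ tt m d

include hp in
theorem p_tt (m d : ℕ) : p (m + d) ≫ tt t m d = p m := by
  induction d with
  | zero => exact Category.comp_id _
  | succ d ih =>
    change p (m + d + 1) ≫ t (m + d) ≫ tt t m d = _
    rw [← Category.assoc, hp, ih]

/-- `0 → K_n → F → Q_n → 0`. -/
noncomputable def ses (n : ℕ) : ShortComplex X.Modules :=
  ShortComplex.mk (kernel.ι (p n)) (p n) (kernel.condition _)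

include hepi in
theorem ses_shortExact (n : ℕ) : (ses p n).ShortExact where
  exact := ShortComplex.exact_of_f_is_kernel _ (kernelIsKernel _)
  mono_f := inferInstanceAs (Mono (kernel.ι (p n)))
  epi_g := hepi n

/-- The inclusion of the kernels. -/
noncomputable def incl (m d : ℕ) : kernel (p (m + d)) ⟶ kernel (p m) :=
  kernel.lift (p m) (kernel.ι (p (m + d))) (by
    rw [← p_tt t p hp m d, ← Category.assoc, kernel.condition, zero_comp])

theorem incl_ι (m d : ℕ) : incl t p hp m d ≫ kernel.ι (p m) = kernel.ι (p (m + d)) :=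
  kernel.lift_ι _ _ _

/-- The morphism of the sequences. -/
noncomputable def sesMap (m d : ℕ) : ses p (m + d) ⟶ ses p m where
  τ₁ := incl t p hp m d
  τ₂ := 𝟙 _
  τ₃ := tt t m d
  comm₁₂ := by
    change incl t p hp m d ≫ kernel.ι (p m) = kernel.ι (p (m + d)) ≫ 𝟙 _
    rw [incl_ι, Category.comp_id]
  comm₂₃ := by
    change 𝟙 _ ≫ p m = p (m + d) ≫ tt t m d
    rw [Category.id_comp, p_tt t p hp]

/-- Compatible families are compatible for arbitrary `m ≤ m'`. -/
theorem compat {i : ℕ} (y : ∀ m : ℕ, Coh.HH X (Q m) i)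
    (hy : ∀ m : ℕ, mapΓ (t m) i (y (m + 1)) = y m) (m d : ℕ) :
    mapΓ (tt t m d) i (y (m + d)) = y m := by
  induction d with
  | zero =>
    have h : tt t m 0 = 𝟙 _ := rfl
    rw [h, mapΓ_id]
    rfl
  | succ d ih =>
    have h : tt t m (d + 1) = t (m + d) ≫ tt t m d := rfl
    rw [h, mapΓ_comp, LinearMap.comp_apply]
    have h3 : mapΓ (t (m + d)) i (y (m + (d + 1))) = y (m + d) := hy (m + d)
    rw [h3, ih]

include hp in
theorem exists_incl {l M : ℕ} (h : l ≤ M) :
    ∃ g : kernel (p M) ⟶ kernel (p l), g ≫ kernel.ι (p l) = kernel.ι (p M) := by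
  obtain ⟨d, rfl⟩ := Nat.exists_eq_add_of_le h
  exact ⟨incl t p hp l d, incl_ι t p hp l d⟩

include hp hepi in
/-- The comparison is bijective in degrees `< N` if the cohomology of the kernels is pro-zero in degrees `≤ N`. -/
theorem bijective_of_prozero (N : ℕ)
    (hpz : ∀ i ≤ N, ∀ l : ℕ, ∃ M : ℕ, l ≤ M ∧ ∀ g : kernel (p M) ⟶ kernel (p l),
      g ≫ kernel.ι (p l) = kernel.ι (p M) → mapΓ g i = 0) (i : ℕ) (hi : i < N) :
    (∀ x : Coh.HH X F i, (∀ m : ℕ, mapΓ (p m) i x = 0) → x = 0) ∧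
      (∀ y : (∀ m : ℕ, Coh.HH X (Q m) i), (∀ m : ℕ, mapΓ (t m) i (y (m + 1)) = y m) →
        ∃ x : Coh.HH X F i, ∀ m : ℕ, mapΓ (p m) i x = y m) := by
  obtain ⟨M, -, hM⟩ := hpz i hi.le 0
  have hzero : ∀ (M' : ℕ) (_ : M ≤ M') (x : Coh.HH X F i), mapΓ (p M') i x = 0 → x = 0 := by
    intro M' hM' x hx
    obtain ⟨z, rfl⟩ := (exact₂ (ses p M') (ses_shortExact p hepi _) i x).mp hx
    change mapΓ (kernel.ι (p M')) i z = 0
    obtain ⟨g, hg⟩ := exists_incl t p hp hM'
    obtain ⟨g', hg'⟩ := exists_incl t p hp (Nat.zero_le M)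
    rw [← hg, ← hg', mapΓ_comp, mapΓ_comp, hM g' hg', LinearMap.comp_apply, LinearMap.comp_apply,
      LinearMap.zero_apply, map_zero]
  refine ⟨fun x hx => hzero M le_rfl x (hx M), fun y hy => ?_⟩
  have hlift : ∀ m : ℕ, ∃ x : Coh.HH X F i, mapΓ (p m) i x = y m := by
    intro m
    obtain ⟨M', hM', hd⟩ := hpz (i + 1) hi m
    obtain ⟨d, rfl⟩ := Nat.exists_eq_add_of_le hM'
    have h1 := delta_naturality (ses_shortExact p hepi (m + d)) (ses_shortExact p hepi m)
      (sesMap t p hp m d) i (y (m + d))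
    have h2 : mapΓ (sesMap t p hp m d).τ₃ i (y (m + d)) = y m := compat t y hy m d
    have h3 : mapΓ (sesMap t p hp m d).τ₁ (i + 1) = 0 := hd _ (incl_ι t p hp m d)
    rw [h2, h3, LinearMap.zero_apply] at h1
    exact (exact₃ _ (ses_shortExact p hepi m) i (i + 1) rfl (y m)).mp h1
  choose x hx using hlift
  have hdown : ∀ (m d : ℕ), mapΓ (p m) i (x (m + d)) = y m := by
    intro m d
    have h1 := compat t y hy m d
    rw [← hx (m + d), ← LinearMap.comp_apply, ← mapΓ_comp, p_tt t p hp] at h1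
    exact h1
  have hstab : ∀ m, M ≤ m → ∀ d, x (m + d) = x m := by
    intro m hm d
    rw [← sub_eq_zero]
    refine hzero m hm _ ?_
    rw [map_sub, hdown, hx, sub_self]
  refine ⟨x M, fun m => ?_⟩
  rcases le_total m M with h | h
  · obtain ⟨d, rfl⟩ := Nat.exists_eq_add_of_le h
    exact hdown m d
  · obtain ⟨d, rfl⟩ := Nat.exists_eq_add_of_le h
    rw [← hstab M le_rfl d]
    exact hx (M + d)

end K183.BijProzero
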