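import Groth.Prelude.Def_Lef
import Groth.Prelude.Def_FSch3
import Groth.Agent.Sga2lef.H96.ModSysRec
import Groth.Agent.Fga.UnitRestrict

/-!
# Morphisms of completions into the completion of the structure sheaf

`homToFormalBijective_iff`: `Hom(D, O) → lim Hom(D, O/𝓘^{n+1})` is bijective (`Lef.HomToFormalBijective`) if and only if
`Hom(D, O) → Hom(D^, O^)` (morphisms of systems `FSch.complMod`) is.
-/

set_option autoImplicit false
universe u

open CategoryTheory AlgebraicGeometry Opposite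

namespace K183.ComplHom

open AlgebraicGeometry.Scheme.Modules
open Groth.Agent.Sga2lef.H96.Transp Groth.Agent.Fga.UnitRestrict

section General

variable {X Y Z : Scheme.{u}}

theorem homEquiv_pullbackUnitHom (f : X ⟶ Y) :
    ((pullbackPushforwardAdjunction f).homEquiv _ _) (pullbackUnitHom f) = ClSub.unitToPush f := by
  rw [Adjunction.homEquiv_unit]
  exact unit_pullbackUnitHom f

variable (τ : Z ⟶ Y) (g : Y ⟶ X) (h : Z ⟶ X) (w : τ ≫ g = h)

/-- the map `g_* O_Y ⟶ h_* O_Z` -/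
noncomputable def qm : (pushforward g).obj (Coh.structureModule Y) ⟶
    (pushforward h).obj (Coh.structureModule Z) :=
  (pushforward g).map (ClSub.unitToPush τ) ≫ (pushforwardComp τ g).hom.app _ ≫
    (pushforwardCongr w).hom.app _

theorem tr_unit : tr τ g h w (pullbackUnitHom τ) = qm τ g h w := by
  rw [tr, homEquiv_pullbackUnitHom]
  rfl

theorem unitToPush_qm : ClSub.unitToPush g ≫ qm τ g h w = ClSub.unitToPush h := by
  subst w
  ext V s
  change Z.presheaf.map (𝟙 _) (τ.app (g ⁻¹ᵁ V) (g.app V s)) = (τ ≫ g).app V s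
  rw [Z.presheaf.map_id]
  rfl

theorem qq_unit : (pullback τ).map (pullbackUnitHom g) ≫ pullbackUnitHom τ =
    (qq τ g h w (Coh.structureModule X)).hom ≫ pullbackUnitHom h := by
  refine (homEquiv_tr τ g h w (pullbackUnitHom τ) (pullbackUnitHom g) (pullbackUnitHom h)).1 ?_
  rw [tr_unit, homEquiv_pullbackUnitHom, homEquiv_pullbackUnitHom]
  exact unitToPush_qm τ g h w

/-- the morphism to `g_* O_Y` attached to a morphism `g^* D ⟶ g^* O_X` -/
noncomputable def famAt {D : X.Modules} (a : (pullback g).obj D ⟶ (pullback g).obj (Coh.structureModule X)) :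
    D ⟶ (pushforward g).obj (Coh.structureModule Y) :=
  ((pullbackPushforwardAdjunction g).homEquiv _ _) (a ≫ pullbackUnitHom g)

theorem famAt_injective {D : X.Modules}
    {a b : (pullback g).obj D ⟶ (pullback g).obj (Coh.structureModule X)}
    (H : famAt g a = famAt g b) : a = b :=
  (cancel_mono (pullbackUnitHom g)).1
    (((pullbackPushforwardAdjunction g).homEquiv _ _).injective H)

theorem exists_famAt {D : X.Modules} (y : D ⟶ (pushforward g).obj (Coh.structureModule Y)) :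
    ∃ a : (pullback g).obj D ⟶ (pullback g).obj (Coh.structureModule X), famAt g a = y := by
  refine ⟨((pullbackPushforwardAdjunction g).homEquiv _ _).symm y ≫ inv (pullbackUnitHom g), ?_⟩
  rw [famAt, Category.assoc, IsIso.inv_hom_id, Category.comp_id, Equiv.apply_symm_apply]

theorem famAt_map {D : X.Modules} (φ : D ⟶ Coh.structureModule X) :
    famAt g ((pullback g).map φ) = φ ≫ ClSub.unitToPush g := by
  rw [famAt, Adjunction.homEquiv_naturality_left, homEquiv_pullbackUnitHom]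

theorem famAt_compat {D : X.Modules}
    (a : (pullback g).obj D ⟶ (pullback g).obj (Coh.structureModule X))
    (b : (pullback h).obj D ⟶ (pullback h).obj (Coh.structureModule X)) :
    famAt g a ≫ qm τ g h w = famAt h b ↔
      (pullback τ).map a ≫ (qq τ g h w (Coh.structureModule X)).hom = (qq τ g h w D).hom ≫ b := by
  rw [famAt, famAt, ← tr_unit, homEquiv_tr, Functor.map_comp, Category.assoc, qq_unit τ g h w,
    ← Category.assoc, ← Category.assoc, cancel_mono]

end General

variable {X : Scheme.{u}} (𝓘 : X.IdealSheafData)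

section Trans

open FSch

/-- First part of the transition isomorphism. -/
noncomputable def c1 (n : ℕ) :
    Scheme.Modules.pullback (completionToX X 𝓘 (n + 1)) ⋙
      Scheme.Modules.pullback ((completionAlong X 𝓘).ι n) ≅
        Scheme.Modules.pullback ((completionAlong X 𝓘).ι n ≫ completionToX X 𝓘 (n + 1)) :=
  Scheme.Modules.pullbackComp ((completionAlong X 𝓘).ι n) (completionToX X 𝓘 (n + 1))

/-- Second part of the transition isomorphism. -/
noncomputable def c2 (n : ℕ) :
    Scheme.Modules.pullback ((completionAlong X 𝓘).ι n ≫ completionToX X 𝓘 (n + 1)) ≅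
      Scheme.Modules.pullback (completionToX X 𝓘 n) :=
  Scheme.Modules.pullbackCongr
    (Scheme.IdealSheafData.inclusion_subschemeι (FSch.pow_succ_le X 𝓘 n))

theorem complTransIso_eq (n : ℕ) : complTransIso 𝓘 n = c1 𝓘 n ≪≫ c2 𝓘 n := rfl

theorem c1_eq (n : ℕ) : c1 𝓘 n =
    pullbackComp ((completionAlong X 𝓘).ι n) (completionToX X 𝓘 (n + 1)) := rfl

theorem c2_eq (n : ℕ) : c2 𝓘 n =
    pullbackCongr (Groth.Agent.Sga2lef.H96.ModSysRec.ι_toX 𝓘 n) := rfl

theorem app_trans_hom {C D : Type*} [Category C] [Category D] {F G H : C ⥤ D} (α : F ≅ G)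
    (β : G ≅ H) (M : C) : ((α ≪≫ β).app M).hom = α.hom.app M ≫ β.hom.app M := rfl

theorem qq_hom {X Y Z : Scheme.{u}} (τ : Z ⟶ Y) (g : Y ⟶ X) (h : Z ⟶ X) (w : τ ≫ g = h)
    (M : X.Modules) :
    (qq τ g h w M).hom = (pullbackComp τ g).hom.app M ≫ (pullbackCongr w).hom.app M := rfl

/-- The transition isomorphisms of `complMod` in terms of `qq`. -/
theorem e_hom (F : X.Modules) (n : ℕ) : ((FSch.complMod 𝓘 F).e n).hom =
    (qq ((FSch.completionAlong X 𝓘).ι n) (FSch.completionToX X 𝓘 (n + 1))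
    (FSch.completionToX X 𝓘 n) (Groth.Agent.Sga2lef.H96.ModSysRec.ι_toX 𝓘 n) F).hom := by
  rw [FSch.complMod_e, complTransIso_eq, app_trans_hom, c1_eq, c2_eq, qq_hom]

end Trans

/-- the family of maps to `O/𝓘^{n+1}` attached to a morphism of systems `D^ ⟶ O^` -/
noncomputable def fam {D : X.Modules}
    (ψ : FSch.complMod 𝓘 D ⟶ FSch.complMod 𝓘 (Coh.structureModule X)) (n : ℕ) :
    D ⟶ ClSub.quotMod (𝓘 ^ (n + 1)) :=
  famAt (FSch.completionToX X 𝓘 n) (ψ.app n)

theorem fam_isFormalHom {D : X.Modules}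
    (ψ : FSch.complMod 𝓘 D ⟶ FSch.complMod 𝓘 (Coh.structureModule X)) :
    Lef.IsFormalHom 𝓘 D (fam 𝓘 ψ) := by
  intro n
  have h := ψ.comm n
  rw [e_hom, e_hom] at h
  exact (famAt_compat ((FSch.completionAlong X 𝓘).ι n) (FSch.completionToX X 𝓘 (n + 1))
    (FSch.completionToX X 𝓘 n) (Groth.Agent.Sga2lef.H96.ModSysRec.ι_toX 𝓘 n)
    (ψ.app (n + 1)) (ψ.app n)).2 h

theorem exists_fam {D : X.Modules} (y : ∀ n : ℕ, D ⟶ ClSub.quotMod (𝓘 ^ (n + 1)))
    (hy : Lef.IsFormalHom 𝓘 D y) :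
    ∃ ψ : FSch.complMod 𝓘 D ⟶ FSch.complMod 𝓘 (Coh.structureModule X), fam 𝓘 ψ = y := by
  choose q hq using fun n => exists_famAt (FSch.completionToX X 𝓘 n) (y n)
  have key : ∀ n, (pullback ((FSch.completionAlong X 𝓘).ι n)).map (q (n + 1)) ≫
      ((FSch.complMod 𝓘 (Coh.structureModule X)).e n).hom =
      ((FSch.complMod 𝓘 D).e n).hom ≫ q n := by
    intro n
    rw [e_hom, e_hom]
    refine (famAt_compat ((FSch.completionAlong X 𝓘).ι n) (FSch.completionToX X 𝓘 (n + 1))
      (FSch.completionToX X 𝓘 n) (Groth.Agent.Sga2lef.H96.ModSysRec.ι_toX 𝓘 n) (q (n + 1)) (q n)).1 ?_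
    rw [hq, hq]
    exact hy n
  exact ⟨⟨q, key⟩, funext hq⟩

theorem fam_injective {D : X.Modules}
    {ψ ψ' : FSch.complMod 𝓘 D ⟶ FSch.complMod 𝓘 (Coh.structureModule X)} (h : fam 𝓘 ψ = fam 𝓘 ψ') :
    ψ = ψ' :=
  FSch.ModSys.Hom.ext (funext fun n => famAt_injective _ (congrFun h n))

theorem fam_complModMap {D : X.Modules} (φ : D ⟶ Coh.structureModule X) (n : ℕ) :
    fam 𝓘 (FSch.complModMap 𝓘 φ) n = φ ≫ ClSub.toSubscheme (𝓘 ^ (n + 1)) :=
  famAt_map (FSch.completionToX X 𝓘 n) φ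

/-- **Comparison of the two forms of "completion is fully faithful".** -/
theorem homToFormalBijective_iff (D : X.Modules) :
    Lef.HomToFormalBijective 𝓘 D ↔
      Function.Bijective (fun φ : D ⟶ Coh.structureModule X => FSch.complModMap 𝓘 φ) := by
  constructor
  · rintro ⟨h1, h2⟩
    refine ⟨fun φ ψ h => h1 φ ψ fun n => ?_, fun ψ => ?_⟩
    · rw [← fam_complModMap, ← fam_complModMap]
      exact congrArg (fun t => fam 𝓘 t n) h
    · obtain ⟨φ, hφ⟩ := h2 _ (fam_isFormalHom 𝓘 ψ)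
      refine ⟨φ, fam_injective 𝓘 (funext fun n => ?_)⟩
      rw [fam_complModMap, hφ]
  · rintro ⟨h1, h2⟩
    refine ⟨fun φ ψ h => h1 (fam_injective 𝓘 (funext fun n => ?_)), fun y hy => ?_⟩
    · rw [fam_complModMap, fam_complModMap]
      exact h n
    · obtain ⟨ψ, hψ⟩ := exists_fam 𝓘 y hy
      obtain ⟨φ, hφ⟩ := h2 ψ
      refine ⟨φ, fun n => ?_⟩
      rw [← fam_complModMap, ← hψ]
      exact congrArg (fun t => fam 𝓘 t n) hφ

end K183.ComplHom
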