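import Groth.Agent.Lef.K183.TransferF
import Groth.Agent.Sga2lef.H102.DepthPush
import Groth.Agent.Sga2lef.H102.GoodLoc
import Groth.Agent.Ega1.QCohLoc
import Groth.Agent.Divis.StalkMod

/-!
# Depth of the image of `s ^ c` on `ι_* 𝔽` at the points where `s` does not vanish; good opens
-/

set_option autoImplicit false
universe u
open CategoryTheory CategoryTheory.Limits AlgebraicGeometry Opposite TopologicalSpace

namespace K183.TransferF

open Groth.Agent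
open Groth.Agent.Ega4dA.GenSec (res resO IsGen res_self res_res res_smul res_add res_zero app_res eq_of_locally
  exists_glue isInvertible_iff resO_resO)
open Groth.Agent.Sga2.TwIt Groth.Agent.Sga2.NegSec Groth.Agent.Sga2
open Groth.Agent.Sga2lef.H102.TwSec Groth.Agent.Sga2lef.H102.SplitExt
open Groth.Agent.Sga2lef.H102.Transfer (resO_app)
open Groth.Agent.CycB.StalkExact Groth.Agent.CycB.PushStalk

variable {X Z : Scheme.{u}} (ι : X ⟶ Z) (𝔽 : X.Modules)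

theorem depth_G [IsClosedImmersion ι] (x : X) :
    LocCoh.depth (Z.presheaf.stalk (ι x)) ((G ι 𝔽).presheaf.stalk (ι x)) =
      LocCoh.depth (X.presheaf.stalk x) (𝔽.presheaf.stalk x) := by
  let e₁ : (G ι 𝔽).presheaf.stalk (ι x) ≃+ 𝔽.presheaf.stalk x :=
    AddEquiv.ofBijective (pushStalk ι 𝔽 x)
      (pushStalk_bijective ι ι.isClosedEmbedding.isInducing 𝔽 x)
  refine (Groth.Agent.Ega4B.DepthTransfer.depth_eq (ι.stalkMap x).hom e₁ (fun b n => ?_)
    (ι.stalkMap_surjective x)).symm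
  change pushStalk ι 𝔽 x (b • n) = (ι.stalkMap x).hom b • pushStalk ι 𝔽 x n
  rw [map_smulₛₗ]

variable {P : Z.Modules} (hP : PicF.IsInvertible P) {a : ℕ} (s : Sec P a) (c : ℕ) {D : Z.Opens} (hD : IsLocus s D)

include hD in
theorem stalk_j_bijective (z : Z) (hz : z ∈ D) : Function.Bijective (stalkLin (j ι 𝔽 hP s c) z) := by
  refine ⟨stalkLin_injective _ z, fun g => ?_⟩
  obtain ⟨V, hzV, p, hp, e, he⟩ := StalkTw.exists_stalk_hom hP (spow s c) (G ι 𝔽) z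
  have hu : IsUnit (Z.presheaf.germ V z hzV ((spow s c).c V p hp)) := by
    rw [spow_c, map_pow]
    refine IsUnit.pow _ ?_
    rw [← Z.mem_basicOpen _ _ hzV, hD V p hp]
    exact ⟨hzV, hz⟩
  obtain ⟨v, hv⟩ := hu
  refine ⟨stalkLin (q ι 𝔽 hP s c) z (e.symm ((v⁻¹ : (Z.presheaf.stalk z)ˣ) • g)), ?_⟩
  rw [← LinearMap.comp_apply, ← stalkLin_comp, q_j, he, e.apply_symm_apply, ← hv]
  exact smul_inv_smul v g

include hD in
theorem depth_F (z : Z) (hz : z ∈ D) :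
    LocCoh.depth (Z.presheaf.stalk z) ((F ι 𝔽 hP s c).presheaf.stalk z) =
      LocCoh.depth (Z.presheaf.stalk z) ((G ι 𝔽).presheaf.stalk z) :=
  Groth.Agent.Localalg.Depth.idealDepth_congr_equiv _
    (LinearEquiv.ofBijective (stalkLin (j ι 𝔽 hP s c) z) (stalk_j_bijective ι 𝔽 hP s c hD z hz))

include hD in
theorem lt_depth_F [IsClosedImmersion ι] (n : ℕ)
    (hd : ∀ x : X, ι x ∈ D → IsClosed ({x} : Set X) →
      (n : ℕ∞) < LocCoh.depth (X.presheaf.stalk x) (𝔽.presheaf.stalk x))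
    (z : Z) (hz : z ∈ D) (hzc : IsClosed ({z} : Set Z)) :
    (n : ℕ∞) < LocCoh.depth (Z.presheaf.stalk z) ((F ι 𝔽 hP s c).presheaf.stalk z) := by
  rw [depth_F ι 𝔽 hP s c hD z hz]
  by_cases h : z ∈ Set.range ι
  · obtain ⟨x, rfl⟩ := h
    rw [depth_G]
    refine hd x hz ?_
    have h1 := hzc.preimage ι.continuous
    convert h1
    ext y
    simp only [Set.mem_singleton_iff, Set.mem_preimage]
    exact ⟨fun h => by rw [h], fun h => ι.isClosedEmbedding.injective h⟩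
  · have : Subsingleton ((G ι 𝔽).presheaf.stalk z) := by
      refine subsingleton_stalk_push ι _ z ?_
      rwa [ι.isClosedEmbedding.isClosed_range.closure_eq]
    rw [Groth.Agent.Ega4B.DepthBasic.depth_eq_top_of_subsingleton]
    exact ENat.natCast_lt_top n

section alg

/-- `f` has a torsion exponent on a module. -/
def Tors {R : Type*} [CommRing R] (M : Type*) [AddCommGroup M] [Module R M] (f : R) (c : ℕ) : Prop :=
  ∀ (m : ℕ) (w : M), f ^ (m + c) • w = 0 → f ^ c • w = 0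

theorem Tors.mono {R : Type*} [CommRing R] {M : Type*} [AddCommGroup M] [Module R M] {f : R} {c c' : ℕ}
    (h : Tors M f c) (hc : c ≤ c') : Tors M f c' := by
  intro m w hw
  obtain ⟨d, rfl⟩ := Nat.exists_eq_add_of_le hc
  have h1 : f ^ (m + d + c) • w = 0 := by rw [show m + d + c = m + (c + d) by ring]; exact hw
  rw [add_comm c d, pow_add, mul_smul, h _ _ h1, smul_zero]

theorem exists_tors {R : Type*} [CommRing R] (M : Type*) [AddCommGroup M] [Module R M] [IsNoetherian R M]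
    (f : R) : ∃ c, Tors M f c := by
  let A : ℕ →o Submodule R M :=
    ⟨fun n => LinearMap.ker (LinearMap.lsmul R M (f ^ n)), fun n m hnm w hw => by
      rw [LinearMap.mem_ker, LinearMap.lsmul_apply] at hw ⊢
      obtain ⟨d, rfl⟩ := Nat.exists_eq_add_of_le hnm
      rw [add_comm n d, pow_add, mul_smul, hw, smul_zero]⟩
  obtain ⟨c, hc⟩ := monotone_stabilizes_iff_noetherian.mpr (inferInstance : IsNoetherian R M) A
  refine ⟨c, fun m w hw => ?_⟩
  have h1 : w ∈ A (m + c) := hw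
  rw [← hc (m + c) (by omega)] at h1
  exact h1

theorem Tors.unit_mul {R : Type*} [CommRing R] {M : Type*} [AddCommGroup M] [Module R M] {f : R} {c : ℕ}
    (h : Tors M f c) {v : R} (hv : IsUnit v) : Tors M (v * f) c := by
  intro m w hw
  obtain ⟨v, rfl⟩ := hv
  rw [mul_pow, mul_smul, ← Units.val_pow_eq_pow_val] at hw
  have hw' : f ^ (m + c) • w = 0 := (smul_eq_zero_iff_eq (v ^ (m + c))).1 hw
  rw [mul_pow, mul_smul, h m w hw', smul_zero]

theorem Tors.away {R S : Type*} [CommRing R] [CommRing S] (ρ : R →+* S) {M N : Type*} [AddCommGroup M]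
    [Module R M] [AddCommGroup N] [Module S N] (g : R) (φ : M → N)
    (hφ : ∀ (r : R) (x : M), φ (r • x) = ρ r • φ x) (hφ0 : φ 0 = 0) (hu : IsUnit (ρ g))
    (hsurj : ∀ y : N, ∃ (n : ℕ) (x : M), φ x = ρ g ^ n • y)
    (hinj : ∀ x : M, φ x = 0 → ∃ n : ℕ, g ^ n • x = 0) {f : R} {c : ℕ} (h : Tors M f c) :
    Tors N (ρ f) c := by
  intro m w hw
  obtain ⟨n, w₀, hw₀⟩ := hsurj w
  have h1 : φ (f ^ (m + c) • w₀) = 0 := by
    rw [hφ, hw₀, smul_comm, map_pow, hw, smul_zero]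
  obtain ⟨k, hk⟩ := hinj _ h1
  have h2 : f ^ (m + c) • (g ^ k • w₀) = 0 := by
    rw [smul_comm]
    exact hk
  have h3 := congrArg φ (h m _ h2)
  rw [hφ, hφ, hφ0, hw₀, map_pow, map_pow, smul_comm, smul_comm (ρ f ^ c), smul_smul, ← pow_add] at h3
  obtain ⟨v, hv⟩ := hu.pow (k + n)
  rw [← hv] at h3
  exact (smul_eq_zero_iff_eq v).1 h3

end alg

open Groth.Agent.Sga2lef.H102.GoodLoc (exists_pow_le) in
theorem exists_good' [IsAffineHom ι] [IsLocallyNoetherian X] (h𝔽 : Coh.IsCoh 𝔽) {J : Type*} [Finite J]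
    (W : J → Z.Opens)
    (hW : ∀ j, IsAffineOpen (W j)) (hcov : ⨆ j, W j = ⊤) (p : ∀ j, Γ(P, W j)) (hp : ∀ j, IsGen P (W j) (p j))
    (𝓘 : X.IdealSheafData)
    (hmem : ∀ j, ι.app (W j) (s.c (W j) (p j) (hp j)) ∈ 𝓘.ideal ⟨ι ⁻¹ᵁ W j, (hW j).preimage ι⟩)
    (hsupp : ∀ j, ∀ x ∈ ι ⁻¹ᵁ W j, x ∉ 𝓘.support → x ∈ X.basicOpen (ι.app (W j) (s.c (W j) (p j) (hp j)))) :
    ∃ c e : ℕ, ∀ (V : Z.Opens) (z : Z), z ∈ V → ∃ (W : Z.Opens) (_ : W ≤ V), z ∈ W ∧
      ∀ (p : Γ(P, W)) (hp : IsGen P W p), Good ι 𝔽 s 𝓘 c e W p hp := by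
  have hNoeth : ∀ j, IsNoetherianRing Γ(X, ι ⁻¹ᵁ W j) := fun j =>
    IsLocallyNoetherian.component_noetherian ⟨ι ⁻¹ᵁ W j, (hW j).preimage ι⟩
  have hNoeth' : ∀ j, IsNoetherian Γ(X, ι ⁻¹ᵁ W j) Γ(𝔽, ι ⁻¹ᵁ W j) := fun j => by
    have := Groth.Agent.Divis.StalkMod.finite_sections h𝔽 ((hW j).preimage ι)
    exact isNoetherian_of_isNoetherianRing_of_finite _ _
  choose c₀ hc₀ using fun j => exists_tors Γ(𝔽, ι ⁻¹ᵁ W j) (ι.app (W j) (s.c (W j) (p j) (hp j)))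
  choose e₀ he₀ using fun j => exists_pow_le ((hW j).preimage ι) (𝓘.ideal ⟨ι ⁻¹ᵁ W j, (hW j).preimage ι⟩)
    (ι.app (W j) (s.c (W j) (p j) (hp j))) (fun t ht x hx => by
      have hxW : x ∈ ι ⁻¹ᵁ W j := X.basicOpen_le t hx
      refine hsupp j x hxW fun hs => ?_
      rw [Scheme.IdealSheafData.mem_support_iff_of_mem (U := ⟨ι ⁻¹ᵁ W j, (hW j).preimage ι⟩) hxW,
        Scheme.mem_zeroLocus_iff] at hs
      exact hs t ht hx)
  cases nonempty_fintype J
  let c := Finset.univ.sup c₀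
  let e := Finset.univ.sup e₀
  have hc : ∀ j, Tors Γ(𝔽, ι ⁻¹ᵁ W j) (ι.app (W j) (s.c (W j) (p j) (hp j))) c := fun j =>
    Tors.mono (hc₀ j) (Finset.le_sup (Finset.mem_univ j))
  have he : ∀ j, 𝓘.ideal ⟨ι ⁻¹ᵁ W j, (hW j).preimage ι⟩ ^ e ≤
      Ideal.span {ι.app (W j) (s.c (W j) (p j) (hp j))} := fun j =>
    (Ideal.pow_le_pow_right (Finset.le_sup (Finset.mem_univ j))).trans (he₀ j)
  refine ⟨c, e, fun V z hz => ?_⟩
  have hz' : z ∈ ⨆ j, W j := by rw [hcov]; trivial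
  obtain ⟨j, hj⟩ := Opens.mem_iSup.mp hz'
  obtain ⟨g, hgV, hzg⟩ := (hW j).exists_basicOpen_le ⟨z, hz⟩ hj
  refine ⟨Z.basicOpen g, hgV, hzg, fun q hq => ?_⟩
  have hle : Z.basicOpen g ≤ W j := Z.basicOpen_le g
  obtain ⟨v, hv⟩ := ((hp j).mono hle).exists_unit hq
  have hle2 : ι ⁻¹ᵁ (Z.basicOpen g) ≤ ι ⁻¹ᵁ (W j) := fun _ hx => hle hx
  -- the function
  have hf : ι.app (Z.basicOpen g) (s.c (Z.basicOpen g) q hq) = ι.app (Z.basicOpen g) (v ^ a : Γ(Z, Z.basicOpen g)) *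
      resO X hle2 (ι.app (W j) (s.c (W j) (p j) (hp j))) := by
    rw [resO_app ι hle, s.res_c (W j) (Z.basicOpen g) hle, ← map_mul,
      ← s.c_smul _ _ ((hp j).mono hle) _ v.isUnit]
    congr 1
    exact s.c_congr hv.symm _ _
  have hunit : IsUnit (ι.app (Z.basicOpen g) (v ^ a : Γ(Z, Z.basicOpen g))) :=
    (v.isUnit.pow a).map (ι.app (Z.basicOpen g)).hom
  have haff : IsAffineOpen (ι ⁻¹ᵁ Z.basicOpen g) := ((hW j).basicOpen g).preimage ι
  have hle' : (⟨ι ⁻¹ᵁ Z.basicOpen g, haff⟩ : X.affineOpens) ≤ ⟨ι ⁻¹ᵁ W j, (hW j).preimage ι⟩ :=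
    fun _ hx => hle hx
  have hloc := Groth.Agent.Ega1.QCohLoc.isLocOnAffines_of_isQCoh 𝔽 h𝔽.1 _ ((hW j).preimage ι)
    (ι.app (W j) g)
  have hbas : ι ⁻¹ᵁ Z.basicOpen g = X.basicOpen (ι.app (W j) g) := Scheme.preimage_basicOpen ι g
  refine ⟨haff, ?_, ?_, ?_⟩
  · have hug : IsUnit ((X.presheaf.map (homOfLE hle2).op).hom (ι.app (W j) g)) := by
      have h1 : (X.presheaf.map (homOfLE hle2).op).hom (ι.app (W j) g) =
          ι.app (Z.basicOpen g) (resO Z hle g) := resO_app ι hle g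
      rw [h1]
      exact (Z.toRingedSpace.isUnit_res_basicOpen g).map (ι.app (Z.basicOpen g)).hom
    have h1 := Tors.away (X.presheaf.map (homOfLE hle2).op).hom (ι.app (W j) g) (res 𝔽 hle2)
      (fun r x => res_smul _ hle2 r x) (res_zero _ _) hug
      (fun y => hloc.surj' hbas hle2 y) (fun x hx => hloc.inj' hbas hle2 x hx) (hc j)
    have h2 := h1.unit_mul hunit
    rw [hf]
    exact h2
  · rw [hf]
    refine Ideal.mul_mem_left _ _ ?_
    rw [← 𝓘.map_ideal hle']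
    exact Ideal.mem_map_of_mem _ (hmem j)
  · rw [hf, Ideal.span_singleton_mul_left_unit hunit, ← 𝓘.map_ideal hle', ← Ideal.map_pow]
    refine (Ideal.map_mono (he j)).trans ?_
    rw [Ideal.map_span, Set.image_singleton]
    rfl

end K183.TransferF
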