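import Groth.Agent.Lef.K183.ComplHom
import Groth.Agent.Pi1A.LimAlg
import Groth.Agent.Dcoh.DualFLF
import Groth.Agent.Sga67.ClosedTens
import Groth.Agent.Ega2.QCohLocal
import Groth.Agent.Sga67.LocBasisOps
import Mathlib.CategoryTheory.Monoidal.Rigid.Braided

/-!
# Morphisms into a finite locally free module and its completion

`isLim_of_homToFormalBijective`: if `M` is dualizable with dual `M'` and `Hom(D ⊗ M', O) → lim Hom(D ⊗ M', O/𝓘^(n+1))`
is bijective then `Hom(D, M) → lim Hom(D, M/𝓘^(n+1) M)` is bijective.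
-/

set_option autoImplicit false
universe u

open CategoryTheory AlgebraicGeometry Opposite MonoidalCategory

namespace K183.LimDual

open scoped Groth.Agent.Dcoh.MonCat
open Groth.Agent.FormalB.KQuot Groth.Agent.Pi1A.LimAlg Groth.Agent.Sga2lef.H96.ModSysPush

variable {X : Scheme.{u}}

/-- The unit map `O → O/K`. -/
noncomputable def um (K : X.IdealSheafData) : 𝟙_ X.Modules ⟶ ClSub.quotMod K := ClSub.toSubscheme K

theorem isKQuot_um (K : X.IdealSheafData) : IsKQuot K (um K) := by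
  have h := isKQuot_of_isIso K (F := Coh.structureModule X)
    (Groth.Agent.Ega2.QCohLocal.isQCoh_structureModule X)
    (Groth.Agent.Fga.UnitRestrict.pullbackUnitHom K.subschemeι)
  rw [K183.ComplHom.homEquiv_pullbackUnitHom] at h
  exact h

theorem um_quotMap {I J : X.IdealSheafData} (h : I ≤ J) : um I ≫ Lef.quotMap h = um J :=
  K183.ComplHom.unitToPush_qm (Scheme.IdealSheafData.inclusion h) I.subschemeι J.subschemeι
    (Scheme.IdealSheafData.inclusion_subschemeι h)

/-- `M → O/K ⊗ M`. -/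
noncomputable def tq (K : X.IdealSheafData) (M : X.Modules) : M ⟶ ClSub.quotMod K ⊗ M :=
  (λ_ M).inv ≫ um K ▷ M

theorem tq_quotMap {I J : X.IdealSheafData} (h : I ≤ J) (M : X.Modules) :
    tq I M ≫ Lef.quotMap h ▷ M = tq J M := by
  rw [tq, tq, Category.assoc, ← comp_whiskerRight, um_quotMap]

/-- `M → O/K ⊗ M` is the quotient by `K`, `M` dualizable. -/
theorem isKQuot_tq (K : X.IdealSheafData) (M M' : X.Modules) [ExactPairing M M'] :
    IsKQuot K (tq K M) := by
  have h1 := isKQuot_um K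
  have h2 : IsKQuot K (um K ▷ M) := by
    refine ⟨?_, Groth.Agent.Sga67.ClosedTens.killed_tensor h1.killed M, ?_⟩
    · have := h1.epi
      exact inferInstanceAs (Epi ((tensorRight M).map (um K)))
    · intro Z φ hZ
      obtain ⟨ψ, hψ⟩ := h1.desc (tensorRightHomEquiv (𝟙_ X.Modules) M M' Z φ)
        (Groth.Agent.Sga67.ClosedTens.killed_tensor hZ M')
      refine ⟨(tensorRightHomEquiv (ClSub.quotMod K) M M' Z).symm ψ, ?_⟩
      rw [← tensorRightHomEquiv_symm_naturality, hψ, Equiv.symm_apply_apply]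
  exact h2.iso_comp _

theorem exists_kappa (K : X.IdealSheafData) {M N : X.Modules} (M' : X.Modules) [ExactPairing M' M]
    (q : M ⟶ N) (hK : IsKQuot K q) : ∃ e : ClSub.quotMod K ⊗ M ≅ N, tq K M ≫ e.hom = q := by
  letI : ExactPairing M M' := BraidedCategory.exactPairing_swap M' M
  obtain ⟨e, he, -⟩ := (isKQuot_tq K M M').exists_iso hK
  exact ⟨e, he⟩

section

variable (𝓘 : X.IdealSheafData) {M M' D : X.Modules} [ExactPairing M' M]
  (G : ℕᵒᵖ ⥤ X.Modules) (p : ∀ n : ℕ, M ⟶ G.obj (op n))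
  (hp : ∀ n, p (n + 1) ≫ G.map (homOfLE (Nat.le_succ n)).op = p n)
  (hK : ∀ n, IsKQuot (𝓘 ^ (n + 1)) (p n))

include hK hp in
/-- **Completion of homomorphisms into a dualizable module.** -/
theorem isLim_of_homToFormalBijective (hH : Lef.HomToFormalBijective 𝓘 (D ⊗ M')) : IsLim G p D := by
  letI : ExactPairing M M' := BraidedCategory.exactPairing_swap M' M
  choose e he using fun n => exists_kappa (𝓘 ^ (n + 1)) M' (p n) (hK n)
  have hcomm : ∀ n, (e (n + 1)).hom ≫ G.map (homOfLE (Nat.le_succ n)).op =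
      Lef.quotMap (Lef.pow_succ_le 𝓘 n) ▷ M ≫ (e n).hom := by
    intro n
    have h0 := (isKQuot_tq (𝓘 ^ (n + 1 + 1)) M M').epi
    rw [← cancel_epi (tq (𝓘 ^ (n + 1 + 1)) M), ← Category.assoc, he, hp, ← Category.assoc,
      tq_quotMap, he]
  have hsymm : ∀ (n : ℕ) (φ : D ⟶ M),
      (tensorRightHomEquiv D M' M (ClSub.quotMod (𝓘 ^ (n + 1)))).symm (φ ≫ p n ≫ (e n).inv) =
        (tensorRightHomEquiv D M' M (𝟙_ X.Modules)).symm (φ ≫ (λ_ M).inv) ≫ um (𝓘 ^ (n + 1)) := by
    intro n φ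
    apply (tensorRightHomEquiv D M' M (ClSub.quotMod (𝓘 ^ (n + 1)))).injective
    rw [Equiv.apply_symm_apply, tensorRightHomEquiv_naturality, Equiv.apply_symm_apply, ← he n,
      Category.assoc, Category.assoc, Iso.hom_inv_id, Category.comp_id, tq]
  constructor
  · intro φ ψ h
    have h1 : (tensorRightHomEquiv D M' M (𝟙_ X.Modules)).symm (φ ≫ (λ_ M).inv) =
        (tensorRightHomEquiv D M' M (𝟙_ X.Modules)).symm (ψ ≫ (λ_ M).inv) := by
      apply hH.1
      intro n
      have h0 : φ ≫ p n ≫ (e n).inv = ψ ≫ p n ≫ (e n).inv := by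
        rw [← Category.assoc, h n, Category.assoc]
      exact (hsymm n φ).symm.trans ((congrArg _ h0).trans (hsymm n ψ))
    have h2 := (tensorRightHomEquiv D M' M (𝟙_ X.Modules)).symm.injective h1
    exact (cancel_mono _).1 h2
  · intro θ hθ
    obtain ⟨φ, hφ⟩ := hH.2 (fun n => (tensorRightHomEquiv D M' M
      (ClSub.quotMod (𝓘 ^ (n + 1)))).symm (θ n ≫ (e n).inv)) (by
        intro n
        apply (tensorRightHomEquiv D M' M (ClSub.quotMod (𝓘 ^ (n + 1)))).injective
        rw [tensorRightHomEquiv_naturality, Equiv.apply_symm_apply, Equiv.apply_symm_apply,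
          ← cancel_mono (e n).hom, Category.assoc, Category.assoc, Category.assoc, Iso.inv_hom_id,
          Category.comp_id, ← hcomm, Iso.inv_hom_id_assoc, hθ])
    refine ⟨tensorRightHomEquiv D M' M (𝟙_ X.Modules) φ ≫ (λ_ M).hom, fun n => ?_⟩
    have h1 := hφ n
    change φ ≫ um (𝓘 ^ (n + 1)) = _ at h1
    have h2 := congrArg (tensorRightHomEquiv D M' M (ClSub.quotMod (𝓘 ^ (n + 1)))) h1
    rw [tensorRightHomEquiv_naturality, Equiv.apply_symm_apply] at h2
    rw [← he n, tq, Category.assoc, Category.assoc, Iso.hom_inv_id_assoc, ← Category.assoc]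
    exact (congrArg (· ≫ (e n).hom) h2).trans (by
      rw [Category.assoc, Iso.inv_hom_id, Category.comp_id])

end

/-- The bijectivity for finite locally free source and target. -/
theorem isLim_of_flf {𝓘 : X.IdealSheafData}
    (hH : ∀ D : X.Modules, FlatMod.IsFinLocFree D → Lef.HomToFormalBijective 𝓘 D)
    {M : X.Modules} (hM : FlatMod.IsFinLocFree M)
    (G : ℕᵒᵖ ⥤ X.Modules) (p : ∀ n : ℕ, M ⟶ G.obj (op n))
    (hp : ∀ n, p (n + 1) ≫ G.map (homOfLE (Nat.le_succ n)).op = p n)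
    (hK : ∀ n, IsKQuot (𝓘 ^ (n + 1)) (p n)) {D : X.Modules} (hD : FlatMod.IsFinLocFree D) :
    IsLim G p D := by
  obtain ⟨M', ⟨hMM'⟩⟩ := Groth.Agent.Dcoh.DualFLF.exists_exactPairing hM
  have hM' : FlatMod.IsFinLocFree M' := Groth.Agent.Dcoh.DualFLF.isFinLocFree_dual hM M'
  letI : ExactPairing M' M := BraidedCategory.exactPairing_swap M M'
  exact isLim_of_homToFormalBijective 𝓘 G p hp hK
    (hH _ (Groth.Agent.Sga67.LocBasis.isFinLocFree_tensorMod hD hM'))

end K183.LimDual
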