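import Groth.Agent.Lef.K183.ComplHom

/-!
# Systems of modules isomorphic to a completion

`exists_maps_of_iso`: an isomorphism `M^ ≅ 𝔐` gives compatible maps `M ⟶ (i_n)_* 𝔐_n` which are the quotients by
`𝓘^(n+1)`; `completionMod_eq_complMod`.
-/

set_option autoImplicit false
universe u

open CategoryTheory AlgebraicGeometry Opposite

namespace K183.ModSysConv

open AlgebraicGeometry.Scheme.Modules FSch
open Groth.Agent.FormalB.KQuot Groth.Agent.Sga2lef.H96.Transp
open Groth.Agent.Sga2lef.H96.ModSysPush Groth.Agent.Sga2lef.H96.ModSysRec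

variable {X : Scheme.{u}} (𝓘 : X.IdealSheafData)

theorem complMod_eq_cmOf (F : X.Modules) : complMod 𝓘 F = cmOf 𝓘 F (fun n => (complTransIso 𝓘 n).app F) := rfl

theorem completionMod_eq_complMod (F : X.Modules) : completionMod 𝓘 F = complMod 𝓘 F := by
  rw [completionMod_eq, complMod_eq_cmOf]
  refine congrArg (cmOf 𝓘 F) (funext fun n => ?_)
  refine Iso.ext ?_
  exact (K183.ComplHom.e_hom 𝓘 F n).symm

variable {𝓘}

theorem exists_maps_of_iso {M : X.Modules} (hM : Coh.IsQCoh M) {𝔐 : ModSys (completionAlong X 𝓘)}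
    (α : complMod 𝓘 M ≅ 𝔐) : ∃ p : ∀ n, M ⟶ pm 𝔐 n, (∀ n, IsKQuot (𝓘 ^ (n + 1)) (p n)) ∧
      ∀ n, p (n + 1) ≫ ptr 𝔐 n = p n := by
  have hiso : ∀ n, IsIso (α.hom.app n) := fun n =>
    ⟨α.inv.app n, congrArg (fun t : complMod 𝓘 M ⟶ complMod 𝓘 M => t.app n) α.hom_inv_id,
      congrArg (fun t : 𝔐 ⟶ 𝔐 => t.app n) α.inv_hom_id⟩
  refine ⟨fun n => ((pullbackPushforwardAdjunction (completionToX X 𝓘 n)).homEquiv _ _)
    (α.hom.app n), fun n => ?_, fun n => ?_⟩
  · exact @isKQuot_of_isIso _ (𝓘 ^ (n + 1)) M hM (𝔐.F n) (α.hom.app n) (hiso n)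
  · rw [ptr_eq]
    refine (homEquiv_tr ((completionAlong X 𝓘).ι n) (completionToX X 𝓘 (n + 1))
      (completionToX X 𝓘 n) (ι_toX 𝓘 n) (𝔐.e n).hom (α.hom.app (n + 1)) (α.hom.app n)).2 ?_
    rw [← K183.ComplHom.e_hom]
    exact α.hom.comm n

/-- Recognition of isomorphisms `τ^* F' ≅ F` by quotients. -/
theorem isIso_of_isKQuot_ctr {K K' : X.IdealSheafData} (h : K' ≤ K) {F' : K'.subscheme.Modules}
    {F : K.subscheme.Modules} (a : (pullback (Scheme.IdealSheafData.inclusion h)).obj F' ⟶ F)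
    (H : IsKQuot K (ctr h a)) : IsIso a := by
  apply isIso_of_isIso_map K
  have h0 := isKQuot_ctr h (Iso.refl ((pullback (Scheme.IdealSheafData.inclusion h)).obj F'))
  have h1 : ctr h a = ctr h (Iso.refl _).hom ≫ (pushforward K.subschemeι).map a := by
    rw [← ctr_comp, Iso.refl_hom, Category.id_comp]
  obtain ⟨e, he, -⟩ := h0.exists_iso H
  have hepi := h0.epi
  have h2 : (pushforward K.subschemeι).map a = e.hom := by
    rw [← cancel_epi (ctr h (Iso.refl ((pullback (Scheme.IdealSheafData.inclusion h)).obj F')).hom),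
      ← h1, he]
  rw [h2]
  infer_instance

end K183.ModSysConv
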