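import Groth.Agent.Lef.K183.TowerKQuot
import Groth.Agent.Lef.K183.ModSysConv
import Groth.Prelude.Def_LefX
import Groth.Agent.Fdesc.LefEt

/-!
# The system of modules of a tower of finite étale covers
-/

set_option autoImplicit false
universe u

open CategoryTheory AlgebraicGeometry Opposite

namespace K183.IdTower

open AlgebraicGeometry.Scheme.Modules FSch
open Groth.Agent.FormalB.KQuot Groth.Agent.Sga2lef.H96.Transp
open Groth.Agent.Sga2lef.H96.ModSysPush Groth.Agent.Sga2lef.H96.ModSysRec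
open Groth.Agent.Pi1A.PushAlg K183.ModSysConv

section

variable {X : Scheme.{u}}

/-- `ι_* π_* O ≅ (π ≫ ι)_* O` -/
noncomputable def kap {R Z : Scheme.{u}} (π : R ⟶ Z) (ι : Z ⟶ X) (q : R ⟶ X) (w : π ≫ ι = q) :
    (pushforward ι).obj (pushO π) ≅ pushO q := pp π ι q w (Coh.structureModule R)

variable {R R' Z Z' : Scheme.{u}} {t : R ⟶ R'} {π : R ⟶ Z} {π' : R' ⟶ Z'} {j : Z ⟶ Z'}
  (sq : t ≫ π' = π ≫ j)

/-- `π'_* O ⟶ j_* π_* O` -/
noncomputable def at' : pushO π' ⟶ (pushforward j).obj (pushO π) :=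
  Groth.Agent.Pi1A.PushAlg.map t sq ≫ (kap π j (π ≫ j) rfl).inv

/-- `j^* π'_* O ⟶ π_* O` -/
noncomputable def at0 : (pullback j).obj (pushO π') ⟶ pushO π :=
  ((pullbackPushforwardAdjunction j).homEquiv _ _).symm (at' sq)

theorem kap_inv_app {ι : Z ⟶ X} {q : R ⟶ X} (w : π ≫ ι = q) (V : X.Opens)
    (s : Γ(R, q ⁻¹ᵁ V)) : (kap π ι q w).inv.app V (sec q V s) =
      (show Γ(R, (π ≫ ι) ⁻¹ᵁ V) from (R.presheaf.map (eqToHom (by rw [w])).op s)) := rfl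

theorem kap_hom_app {ι : Z ⟶ X} {q : R ⟶ X} (w : π ≫ ι = q) (V : X.Opens)
    (s : Γ(R, (π ≫ ι) ⁻¹ᵁ V)) : (kap π ι q w).hom.app V s =
      sec q V (R.presheaf.map (eqToHom (by rw [w])).op s) := rfl

variable {ι : Z ⟶ X} {ι' : Z' ⟶ X} (wj : j ≫ ι' = ι) {q : R ⟶ X} {q' : R' ⟶ X}
  (hq : π ≫ ι = q) (hq' : π' ≫ ι' = q') (ht : t ≫ q' = q)

omit sq in
theorem aux (t : R ⟶ R') {O' O'' : R'.Opens} {O1 O2 O3 O4 : R.Opens} (e1 : O4 ⟶ O3) (e2 : O3 ⟶ O2)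
    (e3 : O2 ⟶ O1) (e4 : O'' ⟶ O') (h : O1 ≤ t ⁻¹ᵁ O') (h' : O4 ≤ t ⁻¹ᵁ O'')
    (s : Γ(R', O')) :
    R.presheaf.map e1.op (R.presheaf.map e2.op (R.presheaf.map e3.op (t.appLE O' O1 h s))) =
      t.appLE O'' O4 h' (R'.presheaf.map e4.op s) := by
  rw [← ConcreteCategory.comp_apply, ← ConcreteCategory.comp_apply, ← ConcreteCategory.comp_apply,
    ← ConcreteCategory.comp_apply, ← Functor.map_comp, ← Functor.map_comp, Scheme.Hom.appLE_map,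
    Scheme.Hom.map_appLE]

theorem at'_app (W : Z'.Opens) (s : Γ(R', π' ⁻¹ᵁ W)) : (at' sq).app W (sec π' W s) =
    (show Γ((pushforward j).obj (pushO π), W) from (show Γ(R, (π ≫ j) ⁻¹ᵁ W) from
      R.presheaf.map (𝟙 _) (t.appLE (π' ⁻¹ᵁ W) ((π ≫ j) ⁻¹ᵁ W) (le_preimage t sq W) s))) := rfl

include wj in
theorem tr_at0_kap : tr j ι' ι wj (at0 sq) ≫ (kap π ι q hq).hom =
    (kap π' ι' q' hq').hom ≫ Groth.Agent.Pi1A.PushAlg.map t ht := by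
  subst hq' wj hq
  rw [tr, at0, Equiv.apply_symm_apply]
  ext V s
  exact aux t (O' := π' ⁻¹ᵁ (ι' ⁻¹ᵁ V)) (O'' := π' ⁻¹ᵁ (ι' ⁻¹ᵁ V)) (O1 := (π ≫ j) ⁻¹ᵁ (ι' ⁻¹ᵁ V))
    (O2 := (π ≫ j) ⁻¹ᵁ (ι' ⁻¹ᵁ V)) (O3 := (π ≫ j) ⁻¹ᵁ (ι' ⁻¹ᵁ V)) (O4 := (π ≫ j) ⁻¹ᵁ (ι' ⁻¹ᵁ V))
    (𝟙 _) (𝟙 _) (𝟙 _) (𝟙 _) (le_preimage t sq (ι' ⁻¹ᵁ V)) (le_preimage t sq (ι' ⁻¹ᵁ V)) s

end

variable {X : Scheme.{u}} {𝓘 : X.IdealSheafData}

theorem isIso_at0 {K K' : X.IdealSheafData} (h : K' ≤ K) {R R' : Scheme.{u}} {t : R ⟶ R'}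
    {π : R ⟶ K.subscheme} {π' : R' ⟶ K'.subscheme} [IsAffineHom π']
    (sq : IsPullback t π π' (Scheme.IdealSheafData.inclusion h)) : IsIso (at0 sq.w) := by
  have ht : t ≫ π' ≫ K'.subschemeι = π ≫ K.subschemeι := by
    rw [← Category.assoc, sq.w, Category.assoc, Scheme.IdealSheafData.inclusion_subschemeι]
  refine isIso_of_isKQuot_ctr h _ ?_
  have h1 := tr_at0_kap sq.w (Scheme.IdealSheafData.inclusion_subschemeι h) rfl rfl ht
  have h2 : ctr h (at0 sq.w) = (kap π' K'.subschemeι _ rfl).hom ≫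
      Groth.Agent.Pi1A.PushAlg.map t ht ≫ (kap π K.subschemeι _ rfl).inv := by
    rw [← Category.assoc, Iso.eq_comp_inv]
    exact h1
  rw [h2]
  exact ((isKQuot_of_isPullback h sq rfl rfl ht).comp_iso _).iso_comp _

namespace Tower

variable (T : Tower 𝓘)

/-- The system of modules of the tower. -/
noncomputable def modSys : ModSys (completionAlong X 𝓘) where
  F n := pushO (T.E n).hom
  e n := @asIso _ _ _ _ (at0 (T.isPullback n).w) (isIso_at0 (Lef.pow_succ_le 𝓘 n) (T.isPullback n))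

theorem levelwiseFinLocFree : LefX.LevelwiseFinLocFree T.modSys := fun n =>
  Groth.Agent.Fdesc.LefEt.isFinLocFree_pushO (T.E n).hom

/-- The identification of the direct images. -/
noncomputable def pmIso (n : ℕ) : pm T.modSys n ≅ T.G.obj (op n) :=
  kap (T.E n).hom (completionToX X 𝓘 n) (T.q n) rfl

theorem ptr_pmIso (n : ℕ) : ptr T.modSys n ≫ (T.pmIso n).hom =
    (T.pmIso (n + 1)).hom ≫ T.G.map (homOfLE (Nat.le_succ n)).op := by
  rw [T.G_map, ptr_eq]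
  exact tr_at0_kap (T.isPullback n).w (ι_toX 𝓘 n) rfl rfl (T.t_q n)

/-- An isomorphism of the completion of `M` with the system of the tower gives compatible quotient maps. -/
theorem exists_maps {M : X.Modules} (hM : Coh.IsQCoh M) (α : complMod 𝓘 M ≅ T.modSys) :
    ∃ p : ∀ n : ℕ, M ⟶ T.G.obj (op n), (∀ n, IsKQuot (𝓘 ^ (n + 1)) (p n)) ∧
      ∀ n, p (n + 1) ≫ T.G.map (homOfLE (Nat.le_succ n)).op = p n := by
  obtain ⟨p, h1, h2⟩ := exists_maps_of_iso hM α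
  refine ⟨fun n => p n ≫ (T.pmIso n).hom, fun n => (h1 n).comp_iso _, fun n => ?_⟩
  rw [Category.assoc, ← ptr_pmIso, ← Category.assoc, h2]

end Tower

end K183.IdTower
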