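import Groth.Agent.Lef.K183.NbhdCover
import Groth.Agent.Lef.K183.TowerMod
import Groth.Agent.Lef.K183.LimDual
import Groth.Agent.PerfA.CohSerre

/-!
# Algebraization of finite étale covers of `V(𝓘)`
-/

set_option autoImplicit false
universe u

open CategoryTheory CategoryTheory.Limits AlgebraicGeometry Opposite TopologicalSpace

namespace K183.IdAlg

open FSch Groth.Agent.Pi1A.LimAlg K183.IdTower K183.LimDual

variable {X : Scheme.{u}} {𝓘 : X.IdealSheafData}

/-- A finite locally free module whose completion is the system of the tower carries an algebra structure. -/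
theorem exists_algData (hH : ∀ D : X.Modules, FlatMod.IsFinLocFree D → Lef.HomToFormalBijective 𝓘 D)
    (T : Tower 𝓘) {M : X.Modules} (hM : FlatMod.IsFinLocFree M) (α : complMod 𝓘 M ≅ T.modSys) :
    ∃ D : AlgData T, D.M = M := by
  have hq := Groth.Agent.Ega2.QCohLocal.isQCoh_of_isFinLocFree hM
  obtain ⟨p, hK, hp⟩ := T.exists_maps hq α
  have hMM := Groth.Agent.Sga67.LocBasis.isFinLocFree_tensorMod hM hM
  obtain ⟨S, hS⟩ := exists_algStr T.G p hp
    (isLim_of_flf hH hM T.G p hp hK (Groth.Agent.Sga2.LefBasic.isFinLocFree_structureModule X))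
    (isLim_of_flf hH hM T.G p hp hK hM)
    (isLim_of_flf hH hM T.G p hp hK hMM)
    (isLim_of_flf hH hM T.G p hp hK
      (Groth.Agent.Sga67.LocBasis.isFinLocFree_tensorMod hMM hM)) T.S T.isHom_S
  exact ⟨⟨M, hq, p, hK, S, hS⟩, rfl⟩

/-- **Algebraization of finite étale covers, neighbourhood form.** -/
theorem exists_nhd_cover [IsLocallyNoetherian X]
    (hH : ∀ D : X.Modules, FlatMod.IsFinLocFree D → Lef.HomToFormalBijective 𝓘 D)
    (T : Tower 𝓘) {M : X.Modules} (hM : FlatMod.IsFinLocFree M) (α : complMod 𝓘 M ≅ T.modSys) :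
    ∃ (U : X.Opens) (R : FEt.Cat (U : Scheme.{u})), (𝓘.support : Set X) ⊆ U ∧
      ∀ (n : ℕ) (i : (𝓘 ^ (n + 1)).subscheme ⟶ (U : Scheme.{u})),
        i ≫ U.ι = (𝓘 ^ (n + 1)).subschemeι → Nonempty ((FEt.restrict i).obj R ≅ T.E n) := by
  obtain ⟨D, rfl⟩ := exists_algData hH T hM α
  exact D.exists_cover_nbhd (Groth.Agent.PerfA.CohSerre.isCoh_of_isFinLocFree hM)

end K183.IdAlg
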