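import Groth.Agent.Lef.K183.TraceForm
import Groth.Agent.Lef.K183.FEtAlgebraize
import Groth.Agent.Ega1.ExtendAff

/-!
# Étaleness and the trace form
-/

set_option autoImplicit false
universe u

open CategoryTheory CategoryTheory.Limits AlgebraicGeometry Opposite MonoidalCategory

namespace K183.TraceIso

open scoped Groth.Agent.Dcoh.MonCat
open FSch Groth.Agent.Dcoh.MonTm Groth.Agent.Pi1A.SheafAlg Groth.Agent.Pi1A.LimAlg
open K183.IdTower K183.IdAlg K183.TraceForm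

variable {X : Scheme.{u}}

/-- A morphism of modules which is bijective on small affine opens is an isomorphism. -/
theorem isIso_of_small {M N : X.Modules} (φ : M ⟶ N)
    (h : ∀ x : X, ∃ V : X.Opens, x ∈ V ∧ ∀ W : X.Opens, IsAffineOpen W → W ≤ V →
      Function.Bijective (φ.app W)) : IsIso φ := by
  let ι : Type u := {W : X.Opens // Function.Bijective (φ.app W)}
  refine Groth.Agent.Ega1.ExtendAff.isIso_of_basis φ (B := fun i : ι => i.1) ?_ fun i => i.2
  rw [TopologicalSpace.Opens.isBasis_iff_nbhd]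
  intro U x hx
  obtain ⟨V, hxV, hV⟩ := h x
  obtain ⟨_, ⟨W, hW, rfl⟩, hxW, hWU⟩ := X.isBasis_affineOpens.exists_subset_of_mem_open
    (show x ∈ ((U ⊓ V : X.Opens) : Set X) from ⟨hx, hxV⟩) (U ⊓ V).isOpen
  exact ⟨W, ⟨⟨W, hV W hW (hWU.trans inf_le_right)⟩, rfl⟩, hxW, hWU.trans inf_le_left⟩

/-- A morphism of modules which is bijective on the small affine opens of an open `U` is an isomorphism on `U`. -/
theorem isIso_restrict_of_small {M N : X.Modules} (φ : M ⟶ N) (U : X.Opens)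
    (h : ∀ x ∈ U, ∃ V : X.Opens, x ∈ V ∧ ∀ W : X.Opens, IsAffineOpen W → W ≤ V → W ≤ U →
      Function.Bijective (φ.app W)) : IsIso ((Scheme.Modules.restrictFunctor U.ι).map φ) := by
  refine isIso_of_small _ fun x => ?_
  obtain ⟨V, hxV, hV⟩ := h (U.ι x) x.2
  refine ⟨U.ι ⁻¹ᵁ V, hxV, fun W hW hWV => ?_⟩
  refine hV (U.ι ''ᵁ W) (hW.image_of_isOpenImmersion U.ι) ?_ ?_
  · rintro _ ⟨y, hy, rfl⟩
    exact hWV hy
  · exact U.ι_image_le W

theorem isIso_pullback_map {M N : X.Modules} (φ : M ⟶ N) (U : X.Opens)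
    (h : IsIso ((Scheme.Modules.restrictFunctor U.ι).map φ)) {Z : Scheme.{u}} (i : Z ⟶ X)
    (j : Z ⟶ (U : Scheme.{u})) (hj : j ≫ U.ι = i) : IsIso ((Scheme.Modules.pullback i).map φ) := by
  subst hj
  rw [← NatIso.isIso_map_iff (Scheme.Modules.pullbackComp j U.ι) φ]
  have h1 : IsIso ((Scheme.Modules.pullback U.ι).map φ) := by
    rw [← NatIso.isIso_map_iff (Scheme.Modules.restrictFunctorIsoPullback U.ι) φ]
    exact h
  exact inferInstanceAs (IsIso ((Scheme.Modules.pullback j).map ((Scheme.Modules.pullback U.ι).map φ)))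

variable (𝓘 : X.IdealSheafData)

/-- A morphism which is an isomorphism near `V(𝓘)` is an isomorphism on the completions. -/
theorem exists_inv_complModMap {M N : X.Modules} (φ : M ⟶ N) (U : X.Opens)
    (hU : (𝓘.support : Set X) ⊆ U) (h : IsIso ((Scheme.Modules.restrictFunctor U.ι).map φ)) :
    ∃ ψ : complMod 𝓘 N ⟶ complMod 𝓘 M, complModMap 𝓘 φ ≫ ψ = 𝟙 _ ∧ ψ ≫ complModMap 𝓘 φ = 𝟙 _ := by
  have h0 : ∀ n, Set.range (𝓘 ^ (n + 1)).subschemeι ⊆ Set.range U.ι := by
    intro n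
    rw [Scheme.Opens.range_ι, Scheme.IdealSheafData.range_subschemeι,
      Scheme.IdealSheafData.support_pow_succ]
    exact hU
  have h1 : ∀ n, IsIso ((complModMap 𝓘 φ).app n) := fun n =>
    isIso_pullback_map φ U h (𝓘 ^ (n + 1)).subschemeι
      (IsOpenImmersion.lift U.ι (𝓘 ^ (n + 1)).subschemeι (h0 n)) (IsOpenImmersion.lift_fac _ _ _)
  refine ⟨⟨fun n => inv ((complModMap 𝓘 φ).app n), fun n => ?_⟩, ?_, ?_⟩
  · rw [Functor.map_inv, IsIso.inv_comp_eq, ← Category.assoc, (complModMap 𝓘 φ).comm n,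
      Category.assoc, IsIso.hom_inv_id, Category.comp_id]
  · exact ModSys.Hom.ext (funext fun n => IsIso.hom_inv_id _)
  · exact ModSys.Hom.ext (funext fun n => IsIso.inv_hom_id _)

theorem complModMap_comp {M N P : X.Modules} (φ : M ⟶ N) (ψ : N ⟶ P) :
    complModMap 𝓘 (φ ≫ ψ) = complModMap 𝓘 φ ≫ complModMap 𝓘 ψ :=
  ModSys.Hom.ext (funext fun n => Functor.map_comp _ _ _)

theorem complModMap_id (M : X.Modules) : complModMap 𝓘 (𝟙 M) = 𝟙 _ :=
  ModSys.Hom.ext (funext fun n => (Scheme.Modules.pullback (completionToX X 𝓘 n)).map_id M)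

variable {𝓘}

/-- Full faithfulness detects isomorphisms near `V(𝓘)`. -/
theorem isIso_of_isIso_restrict
    (h : ∀ F G : X.Modules, FlatMod.IsFinLocFree F → FlatMod.IsFinLocFree G →
      Function.Bijective (fun φ : F ⟶ G => complModMap 𝓘 φ))
    {M N : X.Modules} (hM : FlatMod.IsFinLocFree M) (hN : FlatMod.IsFinLocFree N) (φ : M ⟶ N)
    (U : X.Opens) (hU : (𝓘.support : Set X) ⊆ U)
    (hφ : IsIso ((Scheme.Modules.restrictFunctor U.ι).map φ)) : IsIso φ := by
  obtain ⟨ψ0, h1, h2⟩ := exists_inv_complModMap 𝓘 φ U hU hφ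
  obtain ⟨ψ, hψ⟩ := (h N M hN hM).2 ψ0
  refine ⟨ψ, (h M M hM hM).1 ?_, (h N N hN hN).1 ?_⟩
  · change complModMap 𝓘 (φ ≫ ψ) = complModMap 𝓘 (𝟙 M)
    rw [complModMap_comp, complModMap_id]
    exact (congrArg (complModMap 𝓘 φ ≫ ·) hψ).trans h1
  · change complModMap 𝓘 (ψ ≫ φ) = complModMap 𝓘 (𝟙 N)
    rw [complModMap_comp, complModMap_id]
    exact (congrArg (· ≫ complModMap 𝓘 φ) hψ).trans h2

section Etale

variable {T : Tower 𝓘} (D : AlgData T)

theorem etale_chart_iff (W : X.AffineZariskiSite) :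
    Etale (D.ιY W ≫ D.π) ↔ Algebra.Etale Γ(X, W.toOpens) (D.str.Sec W.toOpens) := by
  rw [D.ιY_π, ← RingHom.etale_algebraMap]
  have h1 : Etale (Spec.map (D.strY W) ≫ (Groth.Agent.CohqB.RelSpec.isAff W).fromSpec) ↔
      Etale (Spec.map (D.strY W)) :=
    ⟨fun h => Etale.of_comp (Spec.map (D.strY W))
      (Groth.Agent.CohqB.RelSpec.isAff W).fromSpec, fun h => inferInstance⟩
  rw [h1, HasRingHomProperty.Spec_iff (P := @Etale)]
  rfl

theorem etale_sec_of_le {U : X.Opens} (hU : Etale ((D.π ⁻¹ᵁ U).ι ≫ D.π)) (W : X.AffineZariskiSite)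
    (hWU : W.toOpens ≤ U) : Algebra.Etale Γ(X, W.toOpens) (D.str.Sec W.toOpens) := by
  rw [← etale_chart_iff]
  have hr : Set.range (D.ιY W) ⊆ Set.range (D.π ⁻¹ᵁ U).ι := by
    rw [Scheme.Opens.range_ι]
    rintro _ ⟨y, rfl⟩
    refine hWU ?_
    rw [← Scheme.Hom.comp_apply, D.ιY_π]
    have h1 : (Groth.Agent.CohqB.RelSpec.isAff W).fromSpec (Spec.map (D.strY W) y) ∈
        (Groth.Agent.CohqB.RelSpec.isAff W).fromSpec.opensRange := ⟨_, rfl⟩
    rw [IsAffineOpen.opensRange_fromSpec] at h1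
    exact h1
  have h2 : D.ιY W ≫ D.π = IsOpenImmersion.lift (D.π ⁻¹ᵁ U).ι (D.ιY W) hr ≫ (D.π ⁻¹ᵁ U).ι ≫ D.π := by
    rw [← Category.assoc, IsOpenImmersion.lift_fac]
  rw [h2]
  infer_instance

theorem etale_π_of_small (h : ∀ x : X, ∃ W : X.AffineZariskiSite, x ∈ W.toOpens ∧
    Algebra.Etale Γ(X, W.toOpens) (D.str.Sec W.toOpens)) : Etale D.π := by
  obtain ⟨V, hV, hVe⟩ := exists_etale_open D.π Set.univ (fun y _ => by
    obtain ⟨W, hyW, hW⟩ := h (D.π y)
    rw [← etale_chart_iff] at hW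
    refine ⟨(D.ιY W).opensRange, ?_, ?_⟩
    · have h3 : D.π y ∈ Set.range (Groth.Agent.CohqB.RelSpec.isAff W).fromSpec := by
        rw [IsAffineOpen.range_fromSpec]
        exact hyW
      obtain ⟨z, hz⟩ := h3
      obtain ⟨p, hp, -⟩ := Scheme.Pullback.exists_preimage_pullback y z hz.symm
      refine ⟨(D.isPullback_ιY W).isoPullback.inv p, ?_⟩
      rw [← Scheme.Hom.comp_apply, IsPullback.isoPullback_inv_fst]
      exact hp
    · have h6 : (D.ιY W).opensRange.ι ≫ D.π = (D.ιY W).isoOpensRange.inv ≫ D.ιY W ≫ D.π := by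
        rw [Scheme.Hom.isoOpensRange_inv_comp_assoc]
      rw [h6]
      infer_instance)
  have hVt : V = ⊤ := by
    ext1
    exact Set.eq_univ_of_univ_subset hV
  subst hVt
  have : D.π = D.Y.topIso.inv ≫ (⊤ : D.Y.Opens).ι ≫ D.π := by
    rw [← Category.assoc, ← Scheme.topIso_hom, Iso.inv_hom_id, Category.id_comp]
  rw [this]
  infer_instance

open Groth.Agent.Sga67.LocBasis in
/-- The trace form of the algebraization detects étaleness on small affine opens. -/
theorem exists_small (hM : FlatMod.IsFinLocFree D.M) (M' : X.Modules) [ExactPairing D.M M'] (x : X) :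
    ∃ V : X.Opens, x ∈ V ∧ ∀ W : X.Opens, W ≤ V →
      (Function.Bijective ((toDual (form M' D.str) : D.M ⟶ M').app W) ↔
        Algebra.Etale Γ(X, W) (D.str.Sec W)) := by
  obtain ⟨V1, hx1, n, a, f, hη⟩ := exists_dual D.M M' x
  obtain ⟨V2, m, hx2, b, hb⟩ := (isFinLocFree_iff _).mp hM x
  refine ⟨V1 ⊓ V2, ⟨hx1, hx2⟩, fun W hW => ?_⟩
  have hη' := dual_res hη (homOfLE (hW.trans inf_le_left))
  let B : Module.Basis (Fin m) Γ(X, W) (D.str.Sec W) := hb.basis (hW.trans inf_le_right)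
  have h1 : Module.Free Γ(X, W) (D.str.Sec W) := Module.Free.of_basis B
  have h2 : Module.Finite Γ(X, W) (D.str.Sec W) := Module.Finite.of_basis B
  rw [bijective_iff hη' D.str]
  exact (Groth.Agent.S2733.result Γ(X, W) (D.str.Sec W)).symm

/-- **The algebraization is étale.** -/
theorem etale_π [IsLocallyNoetherian X]
    (h : ∀ F G : X.Modules, FlatMod.IsFinLocFree F → FlatMod.IsFinLocFree G →
      Function.Bijective (fun φ : F ⟶ G => complModMap 𝓘 φ))
    (hM : FlatMod.IsFinLocFree D.M) : Etale D.π := by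
  obtain ⟨M', ⟨hP⟩⟩ := Groth.Agent.Dcoh.DualFLF.exists_exactPairing hM
  have hM' : FlatMod.IsFinLocFree M' := Groth.Agent.Dcoh.DualFLF.isFinLocFree_dual hM M'
  obtain ⟨U, hU, hUe⟩ := D.exists_open_etale (Groth.Agent.PerfA.CohSerre.isCoh_of_isFinLocFree hM)
  have h1 : IsIso (toDual (form M' D.str) : D.M ⟶ M') := by
    refine isIso_of_isIso_restrict h hM hM' _ U hU (isIso_restrict_of_small _ U fun x _ => ?_)
    obtain ⟨V, hxV, hV⟩ := exists_small D hM M' x
    refine ⟨V, hxV, fun W hW hWV hWU => (hV W hWV).2 ?_⟩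
    exact etale_sec_of_le D hUe ⟨W, hW⟩ hWU
  refine etale_π_of_small D fun x => ?_
  obtain ⟨V, hxV, hV⟩ := exists_small D hM M' x
  obtain ⟨_, ⟨W, hW, rfl⟩, hxW, hWV⟩ := X.isBasis_affineOpens.exists_subset_of_mem_open hxV V.isOpen
  refine ⟨⟨W, hW⟩, hxW, (hV W hWV).1 ?_⟩
  exact (ConcreteCategory.isIso_iff_bijective _).1 inferInstance

end Etale

end K183.TraceIso
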