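import Groth.Agent.Lef.K183.IdTower
import Groth.Agent.Pi1C.PurityQuot

/-!
# The level zero of a tower of finite étale covers
-/

set_option autoImplicit false
universe u

open CategoryTheory CategoryTheory.Limits AlgebraicGeometry Opposite TopologicalSpace

namespace K183.IdTower

open Groth.Agent.Pi1C.PurityQuot

variable {X : Scheme.{u}} (𝓘 : X.IdealSheafData)

theorem pow_zero_add_one : 𝓘 ^ (0 + 1) = 𝓘 := by
  rw [zero_add, pow_one]

/-- `V(𝓘^(0+1)) ≅ V(𝓘)`. -/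
noncomputable def e0 : (𝓘 ^ (0 + 1)).subscheme ⟶ 𝓘.subscheme :=
  Scheme.IdealSheafData.inclusion (pow_zero_add_one 𝓘).ge

theorem e0_subschemeι : e0 𝓘 ≫ 𝓘.subschemeι = (𝓘 ^ (0 + 1)).subschemeι :=
  Scheme.IdealSheafData.inclusion_subschemeι _

instance : IsIso (e0 𝓘) := by
  refine ⟨Scheme.IdealSheafData.inclusion (pow_zero_add_one 𝓘).le, ?_, ?_⟩
  · rw [← cancel_mono (𝓘 ^ (0 + 1)).subschemeι, Category.assoc,
      Scheme.IdealSheafData.inclusion_subschemeι, e0_subschemeι, Category.id_comp]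
  · rw [← cancel_mono 𝓘.subschemeι, Category.assoc, e0_subschemeι,
      Scheme.IdealSheafData.inclusion_subschemeι, Category.id_comp]

variable {𝓘}

theorem descend0 {Z : Scheme.{u}} (i : 𝓘.subscheme ⟶ Z) (R' : FEt.Cat Z) (R : FEt.Cat 𝓘.subscheme)
    (e : (FEt.restrict (e0 𝓘 ≫ i)).obj R' ≅ (FEt.restrict (e0 𝓘)).obj R) :
    Nonempty ((FEt.restrict i).obj R' ≅ R) :=
  ⟨(FEt.restrict (e0 𝓘)).preimageIso (((restrictComp (e0 𝓘) i).app R').symm ≪≫ e)⟩

end K183.IdTower
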