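import Groth.Agent.Lef.K183.OpenQuot
import Groth.Agent.Lef.K183.FEtAlgebraize
import Groth.Agent.Lef.K183.TraceIso
import Groth.Agent.Lef.K183.ZeroLevel
import Groth.Agent.Ega1.QcqsPush
import Groth.Agent.Ega3B.TensRestrict

/-!
# Algebraization of finite étale covers of `V(𝓘)` by a module on an open neighbourhood
-/

set_option autoImplicit false
universe u

open CategoryTheory CategoryTheory.Limits AlgebraicGeometry Opposite

namespace K183.FEtOpen

open FSch AlgebraicGeometry.Scheme.Modules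
open Groth.Agent Groth.Agent.Sga67.Sec Groth.Agent.Sga67.LocBasis
open Groth.Agent.FormalB.KQuot Groth.Agent.Pi1A.LimAlg
open K183.IdTower K183.IdAlg K183.OpenQuot

variable {X : Scheme.{u}}

/-- Local bases of a restriction are local bases. -/
theorem isLocBasis_image {M : X.Modules} {U : X.Opens} {V' : (U : Scheme.{u}).Opens} {κ : Type*}
    [Fintype κ] (b : κ → Sec (M.restrict U.ι) V') (hb : IsLocBasis b) :
    IsLocBasis (M := M) (U := U.ι ''ᵁ V') b := by
  intro W hW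
  have hWU : W ≤ U := hW.trans (U.ι_image_le V')
  obtain ⟨V, hV, rfl⟩ : ∃ V : (U : Scheme.{u}).Opens, V ≤ V' ∧ W = U.ι ''ᵁ V :=
    ⟨U.ι ⁻¹ᵁ W, (U.ι.preimage_mono hW).trans (U.ι.preimage_image_eq V').le, by
      rw [Scheme.Hom.image_preimage_eq_opensRange_inf, Scheme.Opens.opensRange_ι]
      exact (inf_eq_right.mpr hWU).symm⟩
  have e : (comb b hV : (κ → Γ(U, V)) → Sec (M.restrict U.ι) V) =
      comb (M := M) (U := U.ι ''ᵁ V') b hW := by
    funext a
    rw [comb_apply]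
    refine (restrict_sum _).trans ?_
    rw [comb_apply]
    refine Finset.sum_congr rfl fun i _ => ?_
    exact restrict_smul _ _
  have h1 := hb V hV
  change Function.Bijective (comb b hV : (κ → Γ(U, V)) → Sec (M.restrict U.ι) V) at h1
  rw [e] at h1
  exact h1

theorem exists_locBasis {M : X.Modules} {U : X.Opens}
    (hM : FlatMod.IsFinLocFree ((restrictFunctor U.ι).obj M)) {x : X} (hx : x ∈ U) :
    ∃ (V : X.Opens) (n : ℕ), x ∈ V ∧ V ≤ U ∧ ∃ b : Fin n → Sec M V, IsLocBasis b := by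
  obtain ⟨V', n, hxV, b, hb⟩ := (isFinLocFree_iff _).mp hM ⟨x, hx⟩
  exact ⟨U.ι ''ᵁ V', n, ⟨⟨x, hx⟩, hxV, rfl⟩, U.ι_image_le V', b, isLocBasis_image b hb⟩

section Alg

variable {𝓘 : X.IdealSheafData} {T : Tower 𝓘}

theorem exists_finite_sec (D : AlgData T) {U : X.Opens}
    (hM : FlatMod.IsFinLocFree ((restrictFunctor U.ι).obj D.M)) {x : X} (hx : x ∈ U) :
    ∃ V : X.Opens, x ∈ V ∧ V ≤ U ∧ ∀ W : X.Opens, W ≤ V →
      Module.Finite Γ(X, W) (D.str.Sec W) := by
  obtain ⟨V, n, hxV, hVU, b, hb⟩ := exists_locBasis hM hx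
  refine ⟨V, hxV, hVU, fun W hW => ?_⟩
  let B : Module.Basis (Fin n) Γ(X, W) (D.str.Sec W) := hb.basis hW
  exact Module.Finite.of_basis B

/-- The points over a chart. -/
theorem exists_chart_point (D : AlgData T) (W : X.AffineZariskiSite) (y : D.Y)
    (hy : D.π y ∈ W.toOpens) : ∃ z, D.ιY W z = y := by
  have h3 : D.π y ∈ Set.range (Groth.Agent.CohqB.RelSpec.isAff W).fromSpec := by
    rw [IsAffineOpen.range_fromSpec]
    exact hy
  obtain ⟨z, hz⟩ := h3
  obtain ⟨p, hp, -⟩ := Scheme.Pullback.exists_preimage_pullback y z hz.symm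
  refine ⟨(D.isPullback_ιY W).isoPullback.inv p, ?_⟩
  rw [← Scheme.Hom.comp_apply, IsPullback.isoPullback_inv_fst]
  exact hp

theorem exists_etale_nhd [IsLocallyNoetherian X] (D : AlgData T) {U : X.Opens}
    (hM : FlatMod.IsFinLocFree ((restrictFunctor U.ι).obj D.M)) (hU : (𝓘.support : Set X) ⊆ U)
    (y : D.Y) (hy : D.π y ∈ 𝓘.support) : ∃ W : D.Y.Opens, y ∈ W ∧ Etale (W.ι ≫ D.π) := by
  obtain ⟨V, hxV, hVU, hV⟩ := exists_finite_sec D hM (hU hy)
  obtain ⟨_, ⟨W, hW, rfl⟩, hxW, hWV⟩ := X.isBasis_affineOpens.exists_subset_of_mem_open hxV V.isOpen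
  obtain ⟨z, hz⟩ := exists_chart_point D ⟨W, hW⟩ y hxW
  exact D.exists_etale_nhd_of_finite ⟨W, hW⟩ (hV W hWV) z y hz hy

/-- Restrictions to small affine opens are charts. -/
theorem isFinite_restrict_small (D : AlgData T) {U : X.Opens} (W : X.AffineZariskiSite)
    (hfin : Module.Finite Γ(X, W.toOpens) (D.str.Sec W.toOpens)) :
    IsFinite ((D.π ∣_ U) ∣_ (U.ι ⁻¹ᵁ W.toOpens)) := by
  have h1 := ((isPullback_morphismRestrict (D.π ∣_ U) (U.ι ⁻¹ᵁ W.toOpens)).flip).paste_horiz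
    (isPullback_morphismRestrict D.π U).flip
  have h2 : Set.range ((U.ι ⁻¹ᵁ W.toOpens).ι ≫ U.ι) ⊆
      Set.range (Groth.Agent.CohqB.RelSpec.isAff W).fromSpec := by
    rw [IsAffineOpen.range_fromSpec]
    rintro _ ⟨w, rfl⟩
    exact w.2
  have h3 : IsFinite (Spec.map (D.strY W)) := by
    rw [IsFinite.SpecMap_iff]
    exact RingHom.finite_algebraMap.2 hfin
  have h4 := IsOpenImmersion.lift_fac (Groth.Agent.CohqB.RelSpec.isAff W).fromSpec
    ((U.ι ⁻¹ᵁ W.toOpens).ι ≫ U.ι) h2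
  rw [← h4] at h1
  have h5 := IsPullback.of_right (h₁₁ := (D.isPullback_ιY W).lift _ _ (h1.w.trans
    (Category.assoc _ _ _).symm)) (by rw [IsPullback.lift_fst]; exact h1)
    (by rw [IsPullback.lift_snd]) (D.isPullback_ιY W)
  exact MorphismProperty.of_isPullback h5 h3

theorem isFinite_restrict (D : AlgData T) {U : X.Opens}
    (hM : FlatMod.IsFinLocFree ((restrictFunctor U.ι).obj D.M)) : IsFinite (D.π ∣_ U) := by
  choose V hxV hVU hV using fun (x : U) => exists_finite_sec D hM x.2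
  choose W0 hW hxW hWV using fun (x : U) =>
    X.isBasis_affineOpens.exists_subset_of_mem_open (hxV x) (V x).isOpen
  choose W hW1 hW2 using hW
  have hcov : ⨆ x : U, U.ι ⁻¹ᵁ (W x) = ⊤ := by
    rw [eq_top_iff]
    intro x _
    refine TopologicalSpace.Opens.mem_iSup.2 ⟨x, ?_⟩
    have h1 := hxW x
    rw [← hW2 x] at h1
    exact h1
  rw [IsZariskiLocalAtTarget.iff_of_iSup_eq_top (P := @IsFinite) (fun x => U.ι ⁻¹ᵁ (W x)) hcov]
  intro x
  have h1 : W x ≤ V x := by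
    have h2 := hWV x
    rw [← hW2 x] at h2
    exact h2
  exact isFinite_restrict_small D ⟨W x, hW1 x⟩ (hV x _ h1)

/-- The finite étale cover of an open neighbourhood of `V(𝓘)` defined by an algebraization on `U`. -/
theorem exists_cover_nbhd [IsLocallyNoetherian X] (D : AlgData T) {U : X.Opens}
    (hM : FlatMod.IsFinLocFree ((restrictFunctor U.ι).obj D.M)) (hU : (𝓘.support : Set X) ⊆ U) :
    ∃ (U' : X.Opens) (R : FEt.Cat (U' : Scheme.{u})), (𝓘.support : Set X) ⊆ U' ∧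
      ∀ (n : ℕ) (i : (𝓘 ^ (n + 1)).subscheme ⟶ (U' : Scheme.{u})),
        i ≫ U'.ι = (𝓘 ^ (n + 1)).subschemeι → Nonempty ((FEt.restrict i).obj R ≅ T.E n) := by
  have hfin := isFinite_restrict D hM
  obtain ⟨W, hSW, hW⟩ := exists_etale_open D.π (D.π ⁻¹' (𝓘.support : Set X))
    (fun y hy => exists_etale_nhd D hM hU y hy)
  have hcl : IsClosed ((D.π ∣_ U) '' ((D.π ⁻¹ᵁ U).ι ⁻¹' (W : Set D.Y)ᶜ)) :=
    (D.π ∣_ U).isClosedMap _ (W.isOpen.isClosed_compl.preimage (D.π ⁻¹ᵁ U).ι.continuous)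
  let U0 : (U : Scheme.{u}).Opens := ⟨((D.π ∣_ U) '' ((D.π ⁻¹ᵁ U).ι ⁻¹' (W : Set D.Y)ᶜ))ᶜ,
    hcl.isOpen_compl⟩
  let U' : X.Opens := U.ι ''ᵁ U0
  have hU' : (𝓘.support : Set X) ⊆ U' := by
    intro x hx
    refine ⟨⟨x, hU hx⟩, ?_, rfl⟩
    rintro ⟨y, hy, hyx⟩
    refine hy (hSW ?_)
    have h1 : D.π ((D.π ⁻¹ᵁ U).ι y) = x := by
      rw [← Scheme.Hom.comp_apply, ← morphismRestrict_ι, Scheme.Hom.comp_apply, hyx]
      rfl
    change D.π ((D.π ⁻¹ᵁ U).ι y) ∈ 𝓘.support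
    rw [h1]
    exact hx
  have hle : U' ≤ U := U.ι_image_le U0
  have hUW : D.π ⁻¹ᵁ U' ≤ W := by
    intro y hy
    by_contra hyW
    obtain ⟨u, hu, hu2⟩ := hy
    have hyU : y ∈ D.π ⁻¹ᵁ U := hle ⟨u, hu, hu2⟩
    refine hu ⟨⟨y, hyU⟩, hyW, ?_⟩
    apply U.ι.isOpenEmbedding.injective
    rw [← Scheme.Hom.comp_apply, morphismRestrict_ι, Scheme.Hom.comp_apply]
    exact hu2.symm
  have het : Etale ((D.π ⁻¹ᵁ U').ι ≫ D.π) := by
    have : (D.π ⁻¹ᵁ U').ι ≫ D.π = D.Y.homOfLE hUW ≫ W.ι ≫ D.π := by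
      rw [Scheme.homOfLE_ι_assoc]
    rw [this]
    infer_instance
  have hfin' : IsFinite (D.π ∣_ U') := by
    have h1 : IsPullback (D.π ⁻¹ᵁ U').ι (D.π ∣_ U') D.π U'.ι :=
      (isPullback_morphismRestrict D.π U').flip
    have h2 : IsPullback (D.π ⁻¹ᵁ U).ι (D.π ∣_ U) D.π U.ι := (isPullback_morphismRestrict D.π U).flip
    have h3 : X.homOfLE hle ≫ U.ι = U'.ι := X.homOfLE_ι hle
    rw [← h3] at h1
    have h5 := IsPullback.of_right (h₁₁ := h2.lift _ _ (h1.w.trans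
      (Category.assoc _ _ _).symm)) (by rw [IsPullback.lift_fst]; exact h1)
      (by rw [IsPullback.lift_snd]) h2
    exact MorphismProperty.of_isPullback h5 hfin
  obtain ⟨R, hR⟩ := D.exists_cover_of_open U' hfin' het
  exact ⟨U', R, hU', hR⟩

/-- The direct image of a finite locally free module on an open neighbourhood `U` of `V(𝓘)` whose completion
is the system of the tower carries an algebra structure. -/
theorem exists_algData [IsLocallyNoetherian X] {U : X.Opens} (hU : (𝓘.support : Set X) ⊆ U)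
    (hH : ∀ D : (U : Scheme.{u}).Modules, FlatMod.IsFinLocFree D →
      Lef.HomToFormalBijective (𝓘.comap U.ι) D)
    (T : Tower 𝓘) {E : (U : Scheme.{u}).Modules} (hE : FlatMod.IsFinLocFree E)
    (α : completionMod 𝓘 ((pushforward U.ι).obj E) ≅ T.modSys) :
    ∃ D : AlgData T, FlatMod.IsFinLocFree ((restrictFunctor U.ι).obj D.M) := by
  have hq : Coh.IsQCoh ((pushforward U.ι).obj E) :=
    Ega1.QcqsPush.isQCoh_pushforward U.ι E (Groth.Agent.Ega2.QCohLocal.isQCoh_of_isFinLocFree hE)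
  rw [K183.ModSysConv.completionMod_eq_complMod] at α
  obtain ⟨p, hK, hp⟩ := T.exists_maps hq α
  let M := (pushforward U.ι).obj E
  have hM : FlatMod.IsFinLocFree ((restrictFunctor U.ι).obj M) :=
    Groth.Agent.Dcoh.FinLocFree.isFinLocFree_of_iso
      ((restrictFunctorAdjCounitIso U.ι).app E).symm hE
  have hMu : IsIso ((restrictAdjunction U.ι).unit.app M) :=
    Adjunction.isIso_unit_app_of_iso (restrictAdjunction U.ι) (Iso.refl M)
  have hG : ∀ n, Mono ((restrictAdjunction U.ι).unit.app (T.G.obj (op n))) := by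
    intro n
    have hr : Set.range (T.q n) ⊆ Set.range U.ι := by
      rw [Scheme.Opens.range_ι]
      rintro _ ⟨y, rfl⟩
      refine hU ?_
      rw [← Scheme.IdealSheafData.support_pow_succ 𝓘 n, ← Scheme.IdealSheafData.range_subschemeι]
      exact ⟨(T.E n).hom y, rfl⟩
    have h1 := isIso_unit_of_factor U.ι (T.q n) hr (Coh.structureModule (T.E n).left)
    exact @IsIso.mono_of_iso _ _ _ _ ((restrictAdjunction U.ι).unit.app (T.G.obj (op n))) h1
  have hMM : FlatMod.IsFinLocFree ((restrictFunctor U.ι).obj (CohB1.tensorMod M M)) :=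
    Groth.Agent.Dcoh.FinLocFree.isFinLocFree_of_iso (Ega3B.TensRestrict.restrictIso U.ι M M).symm
      (isFinLocFree_tensorMod hM hM)
  have hMMM : FlatMod.IsFinLocFree ((restrictFunctor U.ι).obj
      (CohB1.tensorMod (CohB1.tensorMod M M) M)) :=
    Groth.Agent.Dcoh.FinLocFree.isFinLocFree_of_iso
      (Ega3B.TensRestrict.restrictIso U.ι (CohB1.tensorMod M M) M).symm
      (isFinLocFree_tensorMod hMM hM)
  have hO : FlatMod.IsFinLocFree ((restrictFunctor U.ι).obj (Coh.structureModule X)) :=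
    Groth.Agent.Dcoh.FinLocFree.isFinLocFree_of_iso (Scheme.Modules.restrictUnitIso U.ι).symm
      (Groth.Agent.Sga2.LefBasic.isFinLocFree_structureModule _)
  obtain ⟨S, hS⟩ := exists_algStr T.G p hp
    (isLim_of_restrict U.ι 𝓘 hH hM hMu T.G p hp hK hG hO)
    (isLim_of_restrict U.ι 𝓘 hH hM hMu T.G p hp hK hG hM)
    (isLim_of_restrict U.ι 𝓘 hH hM hMu T.G p hp hK hG hMM)
    (isLim_of_restrict U.ι 𝓘 hH hM hMu T.G p hp hK hG hMMM) T.S T.isHom_S
  exact ⟨⟨M, hq, p, hK, S, hS⟩, hM⟩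

end Alg

/-- **Algebraization of a finite étale cover of `V(𝓘)`** over a neighbourhood of `V(𝓘)`, given a finite locally
free algebraization of its levelwise finite locally free system and the comparison for homomorphisms on `U`. -/
theorem exists_nhd_cover [IsLocallyNoetherian X] (𝓘 : X.IdealSheafData) (R : FEt.Cat 𝓘.subscheme)
    (h : ∀ T : Tower 𝓘, ∃ U : X.Opens, (𝓘.support : Set X) ⊆ U ∧
      (∀ D : (U : Scheme.{u}).Modules, FlatMod.IsFinLocFree D →
        Lef.HomToFormalBijective (𝓘.comap U.ι) D) ∧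
      ∃ E : (U : Scheme.{u}).Modules, FlatMod.IsFinLocFree E ∧
        Nonempty (completionMod 𝓘 ((pushforward U.ι).obj E) ≅ T.modSys)) :
    ∃ (U : X.Opens) (R' : FEt.Cat (U : Scheme.{u})), (𝓘.support : Set X) ⊆ (U : Set X) ∧
      ∀ i : 𝓘.subscheme ⟶ (U : Scheme.{u}), i ≫ U.ι = 𝓘.subschemeι →
        Nonempty ((FEt.restrict i).obj R' ≅ R) := by
  obtain ⟨T, hT⟩ := exists_tower 𝓘 ((FEt.restrict (e0 𝓘)).obj R)
  obtain ⟨U, hU, hH, E, hE, ⟨α⟩⟩ := h T
  obtain ⟨D, hD⟩ := exists_algData hU hH T hE α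
  obtain ⟨U', R', hU', hR'⟩ := exists_cover_nbhd D hD hU
  refine ⟨U', R', hU', fun i hi => ?_⟩
  obtain ⟨e⟩ := hR' 0 (e0 𝓘 ≫ i) (by rw [Category.assoc, hi, e0_subschemeι])
  exact descend0 i R' R (e ≪≫ eqToIso hT)

/-- **S5184**: the effective Lefschetz condition extends finite étale covers to a neighbourhood. -/
theorem exists_nhd_cover_of_leffCond [IsLocallyNoetherian X] (𝓘 : X.IdealSheafData)
    (h : LefX.LeffCond X 𝓘) (R : FEt.Cat 𝓘.subscheme) :
    ∃ (U : X.Opens) (R' : FEt.Cat (U : Scheme.{u})), (𝓘.support : Set X) ⊆ (U : Set X) ∧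
      ∀ i : 𝓘.subscheme ⟶ (U : Scheme.{u}), i ≫ U.ι = 𝓘.subschemeι →
        Nonempty ((FEt.restrict i).obj R' ≅ R) := by
  refine exists_nhd_cover 𝓘 R fun T => ?_
  obtain ⟨U, E, hU, hE, hα⟩ := h.2 T.modSys T.levelwiseFinLocFree
  exact ⟨U, hU, fun D hD => h.1 U hU D hD, E, hE, hα⟩

end K183.FEtOpen
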