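import Groth.Agent.Lef.K183.IdTower
import Groth.Agent.Pi1A.QuotBase2
import Groth.Agent.CalgA.TwoGlue
import Groth.Agent.CohqB.RelSpec
import Groth.Agent.FormalB.TrKQuot

/-!
# The relative spectrum of an algebraization of a tower of finite étale covers of the `V(𝓘^(n+1))`
-/

set_option autoImplicit false
universe u

open CategoryTheory CategoryTheory.Limits AlgebraicGeometry Opposite TopologicalSpace

namespace K183.IdAlg

open Groth.Agent.Pi1A.SheafAlg Groth.Agent.Pi1A.LimAlg Groth.Agent.Pi1A.PushAlg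
  Groth.Agent.FormalB.KQuot Groth.Agent.Pi1A Groth.Agent.CohqB K183.IdTower

variable {X : Scheme.{u}} {𝓘 : X.IdealSheafData}

/-- A quasi-coherent algebra whose reductions are the terms of the tower. -/
structure AlgData (T : Tower 𝓘) where
  /-- the module -/
  M : X.Modules
  qcoh : Coh.IsQCoh M
  /-- the projections -/
  p : ∀ n : ℕ, M ⟶ T.G.obj (op n)
  isKQuot : ∀ n : ℕ, IsKQuot (𝓘 ^ (n + 1)) (p n)
  /-- the algebra structure -/
  str : AlgStr M
  isHom : ∀ n : ℕ, IsHom str (T.S n) (p n)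

namespace AlgData

variable {T : Tower 𝓘} (D : AlgData T)

theorem H : D.str.affα.Coequifibered := D.str.coequifibered D.qcoh

/-- The relative spectrum. -/
noncomputable def Y : Scheme.{u} := RelSpec.obj D.H

/-- The structure map of the relative spectrum. -/
noncomputable def π : D.Y ⟶ X := RelSpec.toBase D.H

/-- The ring map `M(U) → Γ(Y_n, q_n⁻¹ U)`. -/
noncomputable def ψ (n : ℕ) (U : X.Opens) : D.str.Sec U →+* Γ((T.E n).left, T.q n ⁻¹ᵁ U) where
  toFun m := fn (T.q n) U ((D.p n).app U m)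
  map_one' := congrArg (fn (T.q n) U) ((D.isHom n).map_one U)
  map_mul' a b := congrArg (fn (T.q n) U) ((D.isHom n).map_mul U a b)
  map_zero' := congrArg (fn (T.q n) U) (map_zero ((D.p n).app U).hom)
  map_add' a b := congrArg (fn (T.q n) U) (map_add ((D.p n).app U).hom a b)

theorem ψ_res (n : ℕ) {U V : X.Opens} (i : V ⟶ U) (m : D.str.Sec U) :
    D.ψ n V (D.str.resHom i m) =
      (T.E n).left.presheaf.map (homOfLE ((T.q n).preimage_mono (leOfHom i))).op (D.ψ n U m) :=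
  congrArg (fn (T.q n) V) (Groth.Agent.Ega2.Tens.app_res (D.p n) i m).symm

theorem ψ_algebraMap (n : ℕ) (U : X.Opens) (r : Γ(X, U)) :
    D.ψ n U (algebraMap Γ(X, U) (D.str.Sec U) r) = (T.q n).app U r := by
  have h1 : algebraMap Γ(X, U) (D.str.Sec U) r = (r • D.str.one U : Γ(D.M, U)) :=
    (Algebra.algebraMap_eq_smul_one r).trans rfl
  have h2 : (D.p n).app U (r • D.str.one U) = r • (T.S n).one U := by
    rw [Scheme.Modules.Hom.app_smul, (D.isHom n).map_one]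
  have h3 : fn (T.q n) U (r • (T.S n).one U) = (T.q n).app U r * 1 := rfl
  rw [mul_one] at h3
  rw [h1]
  exact (congrArg (fn (T.q n) U) h2).trans h3

theorem ψ_surjective (n : ℕ) {U : X.Opens} (hU : IsAffineOpen U) :
    Function.Surjective (D.ψ n U) :=
  Groth.Agent.FormalB.TrKQuot.IsKQuot.app_surjective (D.isKQuot n) D.qcoh hU

theorem ker_ψ (n : ℕ) {U : X.Opens} (hU : IsAffineOpen U) :
    RingHom.ker (D.ψ n U) =
      ((𝓘 ^ (n + 1)).ideal ⟨U, hU⟩).map (algebraMap Γ(X, U) (D.str.Sec U)) := by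
  have h := Groth.Agent.FormalB.TrKQuot.IsKQuot.app_eq_zero_iff (D.isKQuot n) D.qcoh ⟨U, hU⟩
  ext m
  rw [RingHom.mem_ker]
  refine (h m).trans ?_
  have h2 : ((𝓘 ^ (n + 1)).ideal ⟨U, hU⟩) • (⊤ : Submodule Γ(X, U) (D.str.Sec U)) =
      (((𝓘 ^ (n + 1)).ideal ⟨U, hU⟩).map (algebraMap Γ(X, U) (D.str.Sec U))).restrictScalars
        Γ(X, U) := by
    rw [Ideal.smul_top_eq_map]
  exact (congrArg (fun N => m ∈ N) h2).to_iff

/-- The lift data for `Y_n ⟶ Y`. -/
noncomputable def liftData (n : ℕ) : RelSpec.LiftData D.str.affα (T.q n) where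
  ψ U := CommRingCat.ofHom (D.ψ n U.toOpens)
  nat {U V} i := by
    ext m
    exact D.ψ_res n _ m
  comp U := by
    ext r
    exact D.ψ_algebraMap n _ r

/-- The map `Y_n ⟶ Y`. -/
noncomputable def c (n : ℕ) : (T.E n).left ⟶ D.Y := RelSpec.lift D.H (D.liftData n)

@[reassoc (attr := simp)]
theorem c_π (n : ℕ) : D.c n ≫ D.π = T.q n := RelSpec.lift_toBase D.H (D.liftData n)

/-- The charts of `Y`. -/
noncomputable def ιY (U : X.AffineZariskiSite) :
    Spec (CommRingCat.of (D.str.Sec U.toOpens)) ⟶ D.Y := RelSpec.ι D.H U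

instance (U : X.AffineZariskiSite) : IsOpenImmersion (D.ιY U) :=
  inferInstanceAs (IsOpenImmersion (RelSpec.ι D.H U))

/-- The structure map of a chart. -/
noncomputable def strY (U : X.AffineZariskiSite) :
    Γ(X, U.toOpens) ⟶ CommRingCat.of (D.str.Sec U.toOpens) :=
  CommRingCat.ofHom (algebraMap Γ(X, U.toOpens) (D.str.Sec U.toOpens))

/-- The ring map of `c n` on a chart. -/
noncomputable def ψY (n : ℕ) (U : X.AffineZariskiSite) :
    CommRingCat.of (D.str.Sec U.toOpens) ⟶ Γ((T.E n).left, T.q n ⁻¹ᵁ U.toOpens) :=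
  CommRingCat.ofHom (D.ψ n U.toOpens)

@[reassoc]
theorem ιY_π (U : X.AffineZariskiSite) :
    D.ιY U ≫ D.π = Spec.map (D.strY U) ≫ (RelSpec.isAff U).fromSpec :=
  RelSpec.ι_toBase D.H U

@[reassoc]
theorem ι_c (n : ℕ) (U : X.AffineZariskiSite) : (T.q n ⁻¹ᵁ U.toOpens).ι ≫ D.c n =
    (T.q n ⁻¹ᵁ U.toOpens).toSpecΓ ≫ Spec.map (D.ψY n U) ≫ D.ιY U :=
  RelSpec.ι_lift D.H (D.liftData n) U

theorem isPullback_ιY (U : X.AffineZariskiSite) :
    IsPullback (D.ιY U) (Spec.map (D.strY U)) D.π (RelSpec.isAff U).fromSpec :=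
  RelSpec.isPullback_ι D.H U

theorem isPullback_ι_c (n : ℕ) (U : X.AffineZariskiSite) :
    IsPullback ((T.q n ⁻¹ᵁ U.toOpens).toSpecΓ ≫ Spec.map (D.ψY n U)) (T.q n ⁻¹ᵁ U.toOpens).ι
      (D.ιY U) (D.c n) :=
  RelSpec.isPullback_lift D.H (D.liftData n) U

/-- The affine cover of `Y`. -/
noncomputable def coverY : D.Y.OpenCover := RelSpec.cover D.H

/-- The chart of a closed subscheme. -/
theorem isPullback_subscheme (K : X.IdealSheafData) (U : X.affineOpens) :
    IsPullback (Spec.map (CommRingCat.ofHom (Ideal.Quotient.mk (K.ideal U))))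
      (K.subschemeCover.f U) U.2.fromSpec K.subschemeι := by
  have h1 : IsOpenImmersion (K.subschemeCover.f U) := K.subschemeCover.map_prop U
  refine @IsOpenImmersion.isPullback _ _ _ _ (Spec.map (CommRingCat.ofHom
    (Ideal.Quotient.mk (K.ideal U)))) (K.subschemeCover.f U) U.2.fromSpec K.subschemeι h1
    inferInstance ?_ ?_
  · refine (Scheme.IdealSheafData.subschemeCover_map_subschemeι K U).trans ?_
    rw [Scheme.IdealSheafData.glueDataObjι, Category.assoc, IsAffineOpen.isoSpec_inv_ι]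
    rfl
  · refine (congrArg (fun W => K.subschemeι ⁻¹ᵁ W) U.2.opensRange_fromSpec).trans ?_
    exact (Scheme.IdealSheafData.opensRange_subschemeCover_map K U).symm

theorem isPullback_chart (n : ℕ) (U : X.AffineZariskiSite) :
    IsPullback ((T.q n ⁻¹ᵁ U.toOpens).toSpecΓ ≫ Spec.map (D.ψY n U))
      ((T.q n ⁻¹ᵁ U.toOpens).ι ≫ (T.E n).hom)
      (D.ιY U ≫ D.π) (𝓘 ^ (n + 1)).subschemeι := by
  have hUa : IsAffineOpen U.toOpens := U.2
  have hVa : IsAffineOpen (T.q n ⁻¹ᵁ U.toOpens) := hUa.preimage (T.q n)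
  obtain ⟨ρ, hρ, h3⟩ := QuotBase.isPullback_Spec_of_ker ((𝓘 ^ (n + 1)).ideal ⟨U.toOpens, hUa⟩)
    (algebraMap Γ(X, U.toOpens) (D.str.Sec U.toOpens))
    (D.ψ n U.toOpens) (D.ψ_surjective n hUa) (D.ker_ψ n hUa)
  have : IsIso (T.q n ⁻¹ᵁ U.toOpens).toSpecΓ := by
    rw [← IsAffineOpen.isoSpec_hom hVa]
    infer_instance
  have h3' := h3.paste_vert (isPullback_subscheme (𝓘 ^ (n + 1)) ⟨U.toOpens, hUa⟩)
  have h4 := QuotBase.isPullback_iso_comp (T.q n ⁻¹ᵁ U.toOpens).toSpecΓ h3'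
  have h5 : (T.q n ⁻¹ᵁ U.toOpens).ι ≫ (T.E n).hom =
      (T.q n ⁻¹ᵁ U.toOpens).toSpecΓ ≫ Spec.map (CommRingCat.ofHom ρ) ≫
        (𝓘 ^ (n + 1)).subschemeCover.f ⟨U.toOpens, hUa⟩ := by
    rw [← cancel_mono (𝓘 ^ (n + 1)).subschemeι, Category.assoc, Category.assoc]
    have h6 : (T.q n ⁻¹ᵁ U.toOpens).ι ≫ T.q n = (T.q n ⁻¹ᵁ U.toOpens).ι ≫ D.c n ≫ D.π := by
      rw [c_π]
    refine h6.trans ?_
    rw [ι_c_assoc, ιY_π]
    congr 1
    rw [Category.assoc]
    exact h3'.w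
  rw [h5, ιY_π]
  exact h4

/-- `Y_n = Y ×_X V(𝓘^(n+1))`. -/
theorem isPullback_c (n : ℕ) : IsPullback (D.c n) (T.E n).hom D.π (𝓘 ^ (n + 1)).subschemeι := by
  refine Groth.Agent.CalgA.TwoGlue.isPullback_of_cover ?_ D.coverY
    (fun U => ((T.q n ⁻¹ᵁ (show X.AffineZariskiSite from U).toOpens : (T.E n).left.Opens) :
      Scheme.{u}))
    (fun U => (T.q n ⁻¹ᵁ (show X.AffineZariskiSite from U).toOpens).ι)
    (fun U => (T.q n ⁻¹ᵁ (show X.AffineZariskiSite from U).toOpens).toSpecΓ ≫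
      Spec.map (D.ψY n U))
    (fun U => (D.isPullback_ι_c n U).flip)
    (fun U => D.isPullback_chart n U)
  rw [c_π]
  rfl

end AlgData

end K183.IdAlg
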