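import Groth.Agent.Lef.K183.IdAlg
import Groth.Agent.Pi1A.EtaleAdic
import Groth.Agent.CohqB.FiniteType2

/-!
# Étaleness of the algebraization near `V(𝓘)`
-/

set_option autoImplicit false
universe u

open CategoryTheory CategoryTheory.Limits AlgebraicGeometry Opposite TopologicalSpace
open scoped TensorProduct

namespace K183.IdAlg

open Groth.Agent.Pi1A.SheafAlg Groth.Agent.Pi1A Groth.Agent.CohqB K183.IdTower

variable {X : Scheme.{u}} {𝓘 : X.IdealSheafData} {T : Tower 𝓘}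

namespace AlgData

variable (D : AlgData T)

theorem finite_sec (hM : Coh.IsCoh D.M) {U : X.Opens} (hU : IsAffineOpen U) :
    Module.Finite Γ(X, U) (D.str.Sec U) :=
  have := D.qcoh
  FiniteType2.finite_sections_of_isFT D.M hM.2 hU

theorem isFinite_π (hM : Coh.IsCoh D.M) : IsFinite D.π := by
  apply RelSpec.isFinite_toBase
  intro U
  have := D.finite_sec hM U.2
  exact RingHom.finite_algebraMap.2 this

omit D in
theorem exists_chart (K : X.IdealSheafData) (U : X.affineOpens) :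
    ∃ s : Spec (CommRingCat.of (Γ(X, U.1) ⧸ K.ideal U)) ⟶ K.subscheme,
      s ≫ K.subschemeι = Spec.map (CommRingCat.ofHom (Ideal.Quotient.mk (K.ideal U))) ≫
        U.2.fromSpec :=
  ⟨K.subschemeCover.f U, (isPullback_subscheme K U).w.symm⟩

theorem etale_tensor0 (n : ℕ) (U : X.AffineZariskiSite) :
    Algebra.Etale (Γ(X, U.toOpens) ⧸ (𝓘 ^ (n + 1)).ideal ⟨U.toOpens, U.2⟩)
      ((Γ(X, U.toOpens) ⧸ (𝓘 ^ (n + 1)).ideal ⟨U.toOpens, U.2⟩) ⊗[Γ(X, U.toOpens)]
        (D.str.Sec U.toOpens)) := by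
  let J := (𝓘 ^ (n + 1)).ideal ⟨U.toOpens, U.2⟩
  obtain ⟨s, hs⟩ := exists_chart (𝓘 ^ (n + 1)) ⟨U.toOpens, U.2⟩
  have h1 := (IsPullback.of_hasPullback (T.E n).hom s).paste_horiz (D.isPullback_c n)
  rw [hs] at h1
  have h2 := (isPullback_SpecMap_of_isPushout _ _ _ _
    (CommRingCat.isPushout_tensorProduct Γ(X, U.toOpens) (Γ(X, U.toOpens) ⧸ J)
      (D.str.Sec U.toOpens))).flip.paste_horiz (D.isPullback_ιY U)
  have h3 : Etale (pullback.snd (T.E n).hom s) := inferInstance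
  let e := h2.isoIsPullback _ _ h1
  have h4 : e.hom ≫ pullback.snd (T.E n).hom s = _ := h2.isoIsPullback_hom_snd _ _ h1
  have h5 : Etale (Spec.map (CommRingCat.ofHom (algebraMap
      (Γ(X, U.toOpens) ⧸ J) ((Γ(X, U.toOpens) ⧸ J) ⊗[Γ(X, U.toOpens)]
        (D.str.Sec U.toOpens))))) := by
    have h6 : Etale (e.hom ≫ pullback.snd (T.E n).hom s) := inferInstance
    rw [h4] at h6
    exact h6
  exact RingHom.etale_algebraMap.1 ((HasRingHomProperty.Spec_iff (P := @Etale)).1 h5)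

theorem etale_tensor (n : ℕ) (U : X.AffineZariskiSite) :
    Algebra.Etale (Γ(X, U.toOpens) ⧸ (𝓘.ideal ⟨U.toOpens, U.2⟩) ^ (n + 1))
      ((Γ(X, U.toOpens) ⧸ (𝓘.ideal ⟨U.toOpens, U.2⟩) ^ (n + 1)) ⊗[Γ(X, U.toOpens)]
        (D.str.Sec U.toOpens)) := by
  have h := D.etale_tensor0 n U
  have h1 : (𝓘 ^ (n + 1)).ideal ⟨U.toOpens, U.2⟩ = (𝓘.ideal ⟨U.toOpens, U.2⟩) ^ (n + 1) := by
    rw [Scheme.IdealSheafData.ideal_pow, Pi.pow_apply]
  rw [h1] at h
  exact h

theorem etale_tensor' (n : ℕ) (U : X.AffineZariskiSite) :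
    Algebra.Etale (Γ(X, U.toOpens) ⧸ (𝓘.ideal ⟨U.toOpens, U.2⟩) ^ n)
      ((Γ(X, U.toOpens) ⧸ (𝓘.ideal ⟨U.toOpens, U.2⟩) ^ n) ⊗[Γ(X, U.toOpens)]
        (D.str.Sec U.toOpens)) := by
  rcases n with _ | n
  · have h := D.etale_tensor 0 U
    let _ : Algebra (Γ(X, U.toOpens) ⧸ (𝓘.ideal ⟨U.toOpens, U.2⟩) ^ (0 + 1))
      (Γ(X, U.toOpens) ⧸ (𝓘.ideal ⟨U.toOpens, U.2⟩) ^ 0) :=
      (Ideal.Quotient.factor (Ideal.pow_le_pow_right (Nat.zero_le 1))).toAlgebra
    have : IsScalarTower Γ(X, U.toOpens)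
      (Γ(X, U.toOpens) ⧸ (𝓘.ideal ⟨U.toOpens, U.2⟩) ^ (0 + 1))
      (Γ(X, U.toOpens) ⧸ (𝓘.ideal ⟨U.toOpens, U.2⟩) ^ 0) :=
      IsScalarTower.of_algebraMap_eq fun r => rfl
    exact EtaleAdic.etale_base_change (R := Γ(X, U.toOpens)) (R' := Γ(X, U.toOpens))
      (R₀ := Γ(X, U.toOpens) ⧸ (𝓘.ideal ⟨U.toOpens, U.2⟩) ^ (0 + 1))
      (Algebra.TensorProduct.lid Γ(X, U.toOpens) (D.str.Sec U.toOpens)).symm h
  · exact D.etale_tensor n U

/-- `Y → X` is étale at the points over `V(𝓘)`. -/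
theorem isEtaleAt [IsLocallyNoetherian X] (U : X.AffineZariskiSite)
    (hfin : Module.Finite Γ(X, U.toOpens) (D.str.Sec U.toOpens))
    (q : Ideal (D.str.Sec U.toOpens)) [q.IsPrime]
    (hq : 𝓘.ideal ⟨U.toOpens, U.2⟩ ≤ q.under Γ(X, U.toOpens)) :
    Algebra.IsEtaleAt Γ(X, U.toOpens) q := by
  have : IsNoetherianRing Γ(X, U.toOpens) :=
    IsLocallyNoetherian.component_noetherian ⟨U.toOpens, U.2⟩
  exact EtaleAdic.isEtaleAt_of_forall (𝓘.ideal ⟨U.toOpens, U.2⟩) (fun n => D.etale_tensor' n U) q hq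

/-- Étaleness near a point over `V(𝓘)`, the sections of `M` being finite. -/
theorem exists_etale_nhd_of_finite [IsLocallyNoetherian X] (U : X.AffineZariskiSite)
    (hfin : Module.Finite Γ(X, U.toOpens) (D.str.Sec U.toOpens))
    (z : Spec (CommRingCat.of (D.str.Sec U.toOpens))) (y : D.Y) (hz : D.ιY U z = y)
    (hy : D.π y ∈ 𝓘.support) : ∃ W : D.Y.Opens, y ∈ W ∧ Etale (W.ι ≫ D.π) := by
  have hprime : z.asIdeal.IsPrime := z.isPrime
  have hq : 𝓘.ideal ⟨U.toOpens, U.2⟩ ≤ z.asIdeal.under Γ(X, U.toOpens) := by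
    have h0 : (RelSpec.isAff U).fromSpec (Spec.map (D.strY U) z) ∈ 𝓘.support := by
      rw [← hz, ← Scheme.Hom.comp_apply, ιY_π] at hy
      exact hy
    have hmem : (RelSpec.isAff U).fromSpec (Spec.map (D.strY U) z) ∈ U.toOpens := by
      have h1 : (RelSpec.isAff U).fromSpec (Spec.map (D.strY U) z) ∈
          (RelSpec.isAff U).fromSpec.opensRange := ⟨_, rfl⟩
      rwa [IsAffineOpen.opensRange_fromSpec] at h1
    have h2 := (Scheme.IdealSheafData.mem_support_iff_of_mem (U := ⟨U.toOpens, U.2⟩) hmem).1 h0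
    rw [Scheme.mem_zeroLocus_iff] at h2
    intro f hf
    by_contra hfz
    refine h2 f hf ?_
    have h3 : Spec.map (D.strY U) z ∈ (RelSpec.isAff U).fromSpec ⁻¹ᵁ X.basicOpen f := by
      rw [IsAffineOpen.fromSpec_preimage_basicOpen]
      exact hfz
    exact h3
  have h1 := D.isEtaleAt U hfin z.asIdeal hq
  have : IsNoetherianRing Γ(X, U.toOpens) :=
    IsLocallyNoetherian.component_noetherian ⟨U.toOpens, U.2⟩
  have : Algebra.FinitePresentation Γ(X, U.toOpens) (D.str.Sec U.toOpens) :=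
    Algebra.FinitePresentation.of_finiteType.1 inferInstance
  obtain ⟨f, hf, hfe⟩ := Algebra.exists_etale_of_isEtaleAt (R := Γ(X, U.toOpens)) z.asIdeal
  let C := D.str.Sec U.toOpens
  let k : Spec (CommRingCat.of (Localization.Away f)) ⟶ Spec (CommRingCat.of C) :=
    Spec.map (CommRingCat.ofHom (algebraMap C (Localization.Away f)))
  have hk : IsOpenImmersion k := inferInstanceAs (IsOpenImmersion
    (Spec.map (CommRingCat.ofHom (algebraMap C (Localization.Away f)))))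
  have hkU : IsOpenImmersion (k ≫ D.ιY U) := inferInstance
  have het : Etale ((k ≫ D.ιY U) ≫ D.π) := by
    have h2 : k ≫ Spec.map (D.strY U) = Spec.map (CommRingCat.ofHom
        (algebraMap Γ(X, U.toOpens) (Localization.Away f))) := by
      change Spec.map _ ≫ Spec.map _ = _
      rw [← Spec.map_comp]
      congr 1
    rw [Category.assoc, ιY_π, reassoc_of% h2]
    have h3 : Etale (Spec.map (CommRingCat.ofHom
        (algebraMap Γ(X, U.toOpens) (Localization.Away f)))) :=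
      (HasRingHomProperty.Spec_iff (P := @Etale)).2 (RingHom.etale_algebraMap.2 hfe)
    infer_instance
  refine ⟨(k ≫ D.ιY U).opensRange, ?_, ?_⟩
  · have h4 : z ∈ Set.range k := by
      have h5 : Set.range k = (PrimeSpectrum.basicOpen f : Set (PrimeSpectrum C)) :=
        PrimeSpectrum.localization_away_comap_range (Localization.Away f) f
      rw [h5]
      exact hf
    obtain ⟨w, hw⟩ := h4
    refine ⟨w, ?_⟩
    rw [Scheme.Hom.comp_apply, hw, hz]
  · have h6 : (k ≫ D.ιY U).opensRange.ι ≫ D.π =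
        (k ≫ D.ιY U).isoOpensRange.inv ≫ (k ≫ D.ιY U) ≫ D.π := by
      rw [Scheme.Hom.isoOpensRange_inv_comp_assoc]
    rw [h6]
    infer_instance

theorem exists_etale_nhd [IsLocallyNoetherian X] (hM : Coh.IsCoh D.M) (y : D.Y)
    (hy : D.π y ∈ 𝓘.support) : ∃ W : D.Y.Opens, y ∈ W ∧ Etale (W.ι ≫ D.π) := by
  obtain ⟨U, z, hz⟩ : ∃ (U : X.AffineZariskiSite)
    (z : Spec (CommRingCat.of (D.str.Sec U.toOpens))), D.ιY U z = y := D.coverY.exists_eq y
  exact D.exists_etale_nhd_of_finite U (D.finite_sec hM U.2) z y hz hy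

end AlgData

end K183.IdAlg
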