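import Groth.Agent.Pi1A.FEtTower
import Groth.Agent.Pi1A.PushAlg
import Groth.Prelude.Def_Lef
import Mathlib.CategoryTheory.Functor.OfSequence

/-!
# Towers of finite étale covers over the infinitesimal neighbourhoods `V(𝓘^(n+1))`
-/

set_option autoImplicit false
universe u

open CategoryTheory CategoryTheory.Limits AlgebraicGeometry Opposite TopologicalSpace

namespace K183.IdTower

open Groth.Agent.Pi1A.SheafAlg Groth.Agent.Pi1A.LimAlg Groth.Agent.Pi1A.PushAlg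

variable {X : Scheme.{u}} (𝓘 : X.IdealSheafData)

/-- `V(𝓘^(n+1)) ⟶ V(𝓘^(n+2))`. -/
noncomputable def inc (n : ℕ) : (𝓘 ^ (n + 1)).subscheme ⟶ (𝓘 ^ (n + 1 + 1)).subscheme :=
  Scheme.IdealSheafData.inclusion (Lef.pow_succ_le 𝓘 n)

@[reassoc (attr := simp)]
theorem inc_subschemeι (n : ℕ) :
    inc 𝓘 n ≫ (𝓘 ^ (n + 1 + 1)).subschemeι = (𝓘 ^ (n + 1)).subschemeι :=
  Scheme.IdealSheafData.inclusion_subschemeι _

instance (n : ℕ) : IsClosedImmersion (inc 𝓘 n) := by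
  have : IsClosedImmersion (inc 𝓘 n ≫ (𝓘 ^ (n + 1 + 1)).subschemeι) := by
    rw [inc_subschemeι]
    infer_instance
  exact .of_comp (inc 𝓘 n) (𝓘 ^ (n + 1 + 1)).subschemeι

instance (n : ℕ) : Surjective (inc 𝓘 n) := by
  refine ⟨fun y => ?_⟩
  have h1 : (𝓘 ^ (n + 1 + 1)).subschemeι y ∈ Set.range (𝓘 ^ (n + 1)).subschemeι := by
    rw [Scheme.IdealSheafData.range_subschemeι, Scheme.IdealSheafData.support_pow_succ,
      ← Scheme.IdealSheafData.support_pow_succ 𝓘 (n + 1), ← Scheme.IdealSheafData.range_subschemeι]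
    exact ⟨y, rfl⟩
  obtain ⟨x, hx⟩ := h1
  refine ⟨x, (𝓘 ^ (n + 1 + 1)).subschemeι.isClosedEmbedding.injective ?_⟩
  rw [← hx, ← Scheme.Hom.comp_apply, inc_subschemeι]

/-- A tower of finite étale covers. -/
structure Tower where
  /-- the covers -/
  E : ∀ n : ℕ, FEt.Cat (𝓘 ^ (n + 1)).subscheme
  /-- the transition maps -/
  t : ∀ n : ℕ, (E n).left ⟶ (E (n + 1)).left
  isPullback : ∀ n, IsPullback (t n) (E n).hom (E (n + 1)).hom (inc 𝓘 n)

theorem exists_tower (Y0 : FEt.Cat (𝓘 ^ (0 + 1)).subscheme) : ∃ T : Tower 𝓘, T.E 0 = Y0 := by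
  obtain ⟨E, t, h0, ht⟩ := Groth.Agent.Pi1A.FEtTower.exists_seq (inc 𝓘) (fun n => by
    have := Groth.Agent.S0238.result (inc 𝓘 n)
    infer_instance) Y0
  exact ⟨⟨E, t, ht⟩, h0⟩

namespace Tower

variable {𝓘} (T : Tower 𝓘)

/-- The map `Y_n ⟶ X`. -/
noncomputable def q (n : ℕ) : (T.E n).left ⟶ X := (T.E n).hom ≫ (𝓘 ^ (n + 1)).subschemeι

instance (n : ℕ) : IsFinite (T.q n) := by
  have : IsFinite (T.E n).hom := (T.E n).prop.1
  unfold q
  infer_instance

instance (n : ℕ) : Etale (T.E n).hom := (T.E n).prop.2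

instance (n : ℕ) : IsFinite (T.E n).hom := (T.E n).prop.1

@[reassoc (attr := simp)]
theorem t_q (n : ℕ) : T.t n ≫ T.q (n + 1) = T.q n := by
  unfold q
  rw [← Category.assoc, (T.isPullback n).w, Category.assoc, inc_subschemeι]

/-- The system `q_{n*} O_{Y_n}`. -/
noncomputable def G : ℕᵒᵖ ⥤ X.Modules :=
  Functor.ofOpSequence (X := fun n => pushO (T.q n)) (fun n => Groth.Agent.Pi1A.PushAlg.map (T.t n) (T.t_q n))

theorem G_obj (n : ℕ) : T.G.obj (op n) = pushO (T.q n) := rfl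

theorem G_map (n : ℕ) : T.G.map (homOfLE (Nat.le_succ n)).op =
    Groth.Agent.Pi1A.PushAlg.map (T.t n) (T.t_q n) :=
  Functor.ofOpSequence_map_homOfLE_succ _ n

/-- The algebra structure on the terms of the system. -/
noncomputable def S (n : ℕ) : AlgStr (T.G.obj (op n)) := Groth.Agent.Pi1A.PushAlg.str (T.q n)

theorem isHom_S (n : ℕ) : IsHom (T.S (n + 1)) (T.S n) (T.G.map (homOfLE (Nat.le_succ n)).op) := by
  rw [G_map]
  exact isHom_map (T.t n) (T.t_q n)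

end Tower

end K183.IdTower
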