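import Groth.Agent.Lef.K183.IdEtale
import Groth.Agent.Pi1C.FEtExtend

/-!
# The finite étale cover of a neighbourhood of `V(𝓘)` attached to an algebraization
-/

set_option autoImplicit false
universe u

open CategoryTheory CategoryTheory.Limits AlgebraicGeometry Opposite TopologicalSpace

namespace K183.IdAlg

open K183.IdTower Groth.Agent.Pi1C.FEtExtend

/-- The union of the opens on which a morphism is étale. -/
theorem exists_etale_open {X Y : Scheme.{u}} (f : X ⟶ Y) (S : Set X)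
    (h : ∀ x ∈ S, ∃ W : X.Opens, x ∈ W ∧ Etale (W.ι ≫ f)) :
    ∃ W : X.Opens, S ⊆ W ∧ Etale (W.ι ≫ f) := by
  let I := {U : X.Opens // Etale (U.ι ≫ f)}
  let V : X.Opens := ⨆ i : I, i.1
  refine ⟨V, fun x hx => ?_, ?_⟩
  · obtain ⟨W, hxW, hW⟩ := h x hx
    exact TopologicalSpace.Opens.mem_iSup.2 ⟨⟨W, hW⟩, hxW⟩
  let W : I → V.toScheme.Opens := fun i => V.ι ⁻¹ᵁ i.1
  have hW : ⨆ i, W i = ⊤ := by
    rw [eq_top_iff]
    rintro ⟨x, hx⟩ -
    obtain ⟨i, hi⟩ := TopologicalSpace.Opens.mem_iSup.mp hx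
    exact TopologicalSpace.Opens.mem_iSup.mpr ⟨i, hi⟩
  rw [IsZariskiLocalAtSource.iff_of_iSup_eq_top (P := @Etale) W hW]
  intro i
  have h1 := i.2
  have hle : ∀ x : (W i).toScheme, ((W i).ι ≫ V.ι) x ∈ i.1 := fun x => x.2
  let l : (W i).toScheme ⟶ i.1.toScheme := IsOpenImmersion.lift i.1.ι ((W i).ι ≫ V.ι) (by
    rw [Scheme.Opens.range_ι]
    rintro _ ⟨x, rfl⟩
    exact hle x)
  have hl : l ≫ i.1.ι = (W i).ι ≫ V.ι := IsOpenImmersion.lift_fac _ _ _
  have hlo : IsOpenImmersion l := by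
    have : IsOpenImmersion (l ≫ i.1.ι) := by rw [hl]; infer_instance
    exact IsOpenImmersion.of_comp l i.1.ι
  rw [← Category.assoc, ← hl, Category.assoc]
  infer_instance

variable {X : Scheme.{u}} {𝓘 : X.IdealSheafData} {T : Tower 𝓘}

namespace AlgData

variable (D : AlgData T)

/-- The algebraization is étale over an open neighbourhood of `V(𝓘)`. -/
theorem exists_open_etale [IsLocallyNoetherian X] (hM : Coh.IsCoh D.M) :
    ∃ U : X.Opens, (𝓘.support : Set X) ⊆ U ∧ Etale ((D.π ⁻¹ᵁ U).ι ≫ D.π) := by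
  have hfin : IsFinite D.π := D.isFinite_π hM
  obtain ⟨W, hSW, hW⟩ := exists_etale_open D.π (D.π ⁻¹' (𝓘.support : Set X))
    (fun y hy => D.exists_etale_nhd hM y hy)
  have hcl : IsClosed (D.π '' (W : Set D.Y)ᶜ) := D.π.isClosedMap _ W.isOpen.isClosed_compl
  let U : X.Opens := ⟨(D.π '' (W : Set D.Y)ᶜ)ᶜ, hcl.isOpen_compl⟩
  have hU : (𝓘.support : Set X) ⊆ U := by
    rintro x hx ⟨y, hy, rfl⟩
    exact hy (hSW hx)
  have hUW : D.π ⁻¹ᵁ U ≤ W := by
    intro y hy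
    by_contra hyW
    exact hy ⟨y, hyW, rfl⟩
  refine ⟨U, hU, ?_⟩
  have : (D.π ⁻¹ᵁ U).ι ≫ D.π = D.Y.homOfLE hUW ≫ W.ι ≫ D.π := by
    rw [Scheme.homOfLE_ι_assoc]
  rw [this]
  infer_instance

/-- The finite étale cover of an open over which the algebraization is finite étale. -/
theorem exists_cover_of_open (U : X.Opens) (hfin' : IsFinite (D.π ∣_ U))
    (het1 : Etale ((D.π ⁻¹ᵁ U).ι ≫ D.π)) : ∃ R : FEt.Cat (U : Scheme.{u}),
      ∀ (n : ℕ) (i : (𝓘 ^ (n + 1)).subscheme ⟶ (U : Scheme.{u})),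
        i ≫ U.ι = (𝓘 ^ (n + 1)).subschemeι → Nonempty ((FEt.restrict i).obj R ≅ T.E n) := by
  have het : Etale (D.π ∣_ U) := by
    have h1 : Etale ((D.π ∣_ U) ≫ U.ι) := by rw [morphismRestrict_ι]; exact het1
    exact Etale.of_comp (D.π ∣_ U) U.ι
  let R : FEt.Cat (U : Scheme.{u}) := MorphismProperty.Over.mk _ (D.π ∣_ U) ⟨hfin', het⟩
  refine ⟨R, fun n i hi => ?_⟩
  have h1 := D.isPullback_c n
  have h2 : IsPullback (D.π ⁻¹ᵁ U).ι (D.π ∣_ U) D.π U.ι := (isPullback_morphismRestrict D.π U).flip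
  have h3 : IsPullback (h2.lift (D.c n) ((T.E n).hom ≫ i) (by
      rw [Category.assoc, hi]; exact h1.w)) (T.E n).hom (D.π ∣_ U) i := by
    refine IsPullback.of_right (h₁₂ := (D.π ⁻¹ᵁ U).ι) (h₂₂ := U.ι) (v₁₃ := D.π) ?_
      (h2.lift_snd _ _ _) h2
    rw [h2.lift_fst, hi]
    exact h1
  exact ⟨isoOfIsPullback i R (T.E n) _ h3⟩

/-- The algebraization defines a finite étale cover of an open neighbourhood of `V(𝓘)`. -/
theorem exists_cover_nbhd [IsLocallyNoetherian X] (hM : Coh.IsCoh D.M) :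
    ∃ (U : X.Opens) (R : FEt.Cat (U : Scheme.{u})), (𝓘.support : Set X) ⊆ U ∧
      ∀ (n : ℕ) (i : (𝓘 ^ (n + 1)).subscheme ⟶ (U : Scheme.{u})),
        i ≫ U.ι = (𝓘 ^ (n + 1)).subschemeι → Nonempty ((FEt.restrict i).obj R ≅ T.E n) := by
  have hfin : IsFinite D.π := D.isFinite_π hM
  obtain ⟨U, hU, het1⟩ := D.exists_open_etale hM
  have hfin' : IsFinite (D.π ∣_ U) :=
    MorphismProperty.of_isPullback (isPullback_morphismRestrict D.π U).flip hfin
  obtain ⟨R, hR⟩ := D.exists_cover_of_open U hfin' het1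
  exact ⟨U, R, hU, hR⟩

/-- The algebraization defines a finite étale cover if it is étale. -/
theorem exists_cover_of_etale (hM : Coh.IsCoh D.M) (het : Etale D.π) :
    ∃ R : FEt.Cat X, ∀ n : ℕ,
      Nonempty ((FEt.restrict (𝓘 ^ (n + 1)).subschemeι).obj R ≅ T.E n) := by
  have hfin : IsFinite D.π := D.isFinite_π hM
  let R : FEt.Cat X := MorphismProperty.Over.mk _ D.π ⟨hfin, het⟩
  exact ⟨R, fun n => ⟨isoOfIsPullback _ R (T.E n) _ (D.isPullback_c n)⟩⟩

end AlgData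

end K183.IdAlg
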