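import Groth.Agent.Lef.K183.LimDual
import Groth.Agent.Divis.IdealComap

/-!
# Quotients by an ideal and restriction to an open; completion of morphisms on an open
-/

set_option autoImplicit false
universe u

open CategoryTheory CategoryTheory.Limits AlgebraicGeometry Opposite

namespace K183.OpenQuot

open AlgebraicGeometry.Scheme.Modules
open Groth.Agent Groth.Agent.CohqB.QC2 Groth.Agent.FormalB.KQuot Groth.Agent.Pi1A.LimAlg

variable {X U : Scheme.{u}} (j : U ⟶ X) [IsOpenImmersion j] {K : X.IdealSheafData}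

omit [IsOpenImmersion j] in
theorem killed_pushforward {Z : U.Modules} (hZ : ClSub.KilledByIdeal (K.comap j) Z) :
    ClSub.KilledByIdeal K ((pushforward j).obj Z) := by
  intro W a ha m
  refine smul_eq_zero_of_local (M := Z) (U := j ⁻¹ᵁ W.1) ((j.app W.1 a) • (show Γ(Z, j ⁻¹ᵁ W.1) from m)) ?_
  intro x hx
  obtain ⟨V, hV, hxV, hVW⟩ := exists_isAffineOpen_mem_and_subset (x := x) (U := j ⁻¹ᵁ W.1) hx
  have hVW' : V ≤ j ⁻¹ᵁ W.1 := hVW
  refine ⟨V, hVW', hxV, ?_⟩
  refine (res_smul Z hVW' (j.app W.1 a) _).trans ?_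
  refine hZ ⟨V, hV⟩ _ ?_ _
  rw [Divis.IdealComap.ideal_comap K j W ⟨V, hV⟩ hVW']
  exact Ideal.mem_map_of_mem _ ha

theorem killed_restrict {M : X.Modules} (hM : ClSub.KilledByIdeal K M) :
    ClSub.KilledByIdeal (K.comap j) ((restrictFunctor j).obj M) := by
  intro W c hc m
  have hW : IsAffineOpen (j ''ᵁ W.1) := W.2.image_of_isOpenImmersion j
  have hle : W.1 ≤ j ⁻¹ᵁ (j ''ᵁ W.1) := (j.preimage_image_eq W.1).ge
  have h2 : (K.comap j).ideal W ≤ Module.annihilator Γ(U, W.1) Γ((restrictFunctor j).obj M, W.1) := by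
    rw [Divis.IdealComap.ideal_comap K j ⟨j ''ᵁ W.1, hW⟩ W hle, Ideal.map_le_iff_le_comap]
    intro b hb
    rw [Ideal.mem_comap, Module.mem_annihilator]
    intro m'
    have h3 : (j.appLE (j ''ᵁ W.1) W.1 hle).hom b • m' =
        ((j.appIso W.1).inv ((j.appLE (j ''ᵁ W.1) W.1 hle).hom b) • (show Γ(M, j ''ᵁ W.1) from m') :
          Γ(M, j ''ᵁ W.1)) := rfl
    have h4 : (j.appIso W.1).inv ((j.appLE (j ''ᵁ W.1) W.1 hle).hom b) = b := by
      have h5 : j.appLE (j ''ᵁ W.1) W.1 hle ≫ (j.appIso W.1).inv = 𝟙 _ := by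
        rw [← Scheme.Hom.appIso_hom', Iso.hom_inv_id]
      exact congr($h5 b)
    rw [h3, h4]
    exact hM ⟨j ''ᵁ W.1, hW⟩ b hb m'
  exact Module.mem_annihilator.mp (h2 hc) m

/-- Restriction of quotients. -/
theorem isKQuot_restrict {M N : X.Modules} {p : M ⟶ N} (hp : IsKQuot K p) :
    IsKQuot (K.comap j) ((restrictFunctor j).map p) := by
  let adj := restrictAdjunction j
  have := hp.epi
  refine ⟨inferInstance, killed_restrict j hp.killed, fun {W} φ hφ => ?_⟩
  obtain ⟨ψ, hψ⟩ := hp.desc (adj.homEquiv _ _ φ) (killed_pushforward j hφ)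
  refine ⟨(adj.homEquiv _ _).symm ψ, ?_⟩
  rw [← adj.homEquiv_naturality_left_symm, hψ, Equiv.symm_apply_apply]

/-- Direct images along a morphism into `U` come from `U`. -/
theorem isIso_unit_of_factor {Z : Scheme.{u}} (q : Z ⟶ X) (hq : Set.range q ⊆ Set.range j)
    (N : Z.Modules) : IsIso ((restrictAdjunction j).unit.app ((pushforward q).obj N)) := by
  have h := IsOpenImmersion.lift_fac j q hq
  exact Adjunction.isIso_unit_app_of_iso (restrictAdjunction j)
    (X := (pushforward (IsOpenImmersion.lift j q hq)).obj N)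
    ((pushforwardComp _ _).app N ≪≫ (pushforwardCongr h).app N).symm

section

variable (𝓘 : X.IdealSheafData)
  (hH : ∀ D : U.Modules, FlatMod.IsFinLocFree D → Lef.HomToFormalBijective (𝓘.comap j) D)
  {M : X.Modules} (hM : FlatMod.IsFinLocFree ((restrictFunctor j).obj M))
  (hMu : IsIso ((restrictAdjunction j).unit.app M))
  (G : ℕᵒᵖ ⥤ X.Modules) (p : ∀ n : ℕ, M ⟶ G.obj (op n))
  (hp : ∀ n, p (n + 1) ≫ G.map (homOfLE (Nat.le_succ n)).op = p n)
  (hK : ∀ n, IsKQuot (𝓘 ^ (n + 1)) (p n))
  (hG : ∀ n, Mono ((restrictAdjunction j).unit.app (G.obj (op n))))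

include hH hM hMu hp hK hG in
/-- Completion of homomorphisms into a module which comes from the open `U` and is finite locally free on it. -/
theorem isLim_of_restrict {D : X.Modules} (hD : FlatMod.IsFinLocFree ((restrictFunctor j).obj D)) :
    IsLim G p D := by
  let adj := restrictAdjunction j
  have hL : IsLim (G ⋙ restrictFunctor j) (fun n => (restrictFunctor j).map (p n))
      ((restrictFunctor j).obj D) := by
    refine K183.LimDual.isLim_of_flf hH hM (G ⋙ restrictFunctor j)
      (fun n => (restrictFunctor j).map (p n)) (fun n => ?_) (fun n => ?_) hD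
    · rw [← hp n, Functor.map_comp]
      rfl
    · rw [← Divis.IdealComap.comap_pow]
      exact isKQuot_restrict j (hK n)
  constructor
  · intro φ ψ h
    have h1 : (restrictFunctor j).map φ = (restrictFunctor j).map ψ := by
      refine hL.uniq _ _ fun n => ?_
      rw [← Functor.map_comp, ← Functor.map_comp, h n]
    rw [← cancel_mono (adj.unit.app M)]
    have e1 := adj.unit.naturality φ
    have e2 := adj.unit.naturality ψ
    simp only [Functor.id_map, Functor.comp_map] at e1 e2
    refine e1.trans (Eq.trans ?_ e2.symm)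
    rw [h1]
  · intro θ hθ
    obtain ⟨φ, hφ⟩ := hL.ex (fun n => (restrictFunctor j).map (θ n)) (fun n => by
      rw [← hθ n, Functor.map_comp]
      rfl)
    refine ⟨(adj.homEquiv _ _) φ ≫ inv (adj.unit.app M), fun n => ?_⟩
    have := hG n
    rw [← cancel_mono (adj.unit.app (G.obj (op n)))]
    have e1 := adj.unit.naturality (p n)
    have e2 := adj.unit.naturality (θ n)
    simp only [Functor.id_map, Functor.comp_map] at e1 e2
    have e3 : (adj.homEquiv _ _) φ ≫ (pushforward j).map ((restrictFunctor j).map (p n)) =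
        adj.unit.app D ≫ (pushforward j).map ((restrictFunctor j).map (θ n)) := by
      rw [← hφ n, Adjunction.homEquiv_unit, Category.assoc, ← Functor.map_comp]
    rw [Category.assoc, Category.assoc]
    refine Eq.trans ?_ e2.symm
    rw [← e3]
    refine congrArg ((adj.homEquiv _ _) φ ≫ ·) ?_
    rw [IsIso.inv_comp_eq]
    exact e1

end

end K183.OpenQuot
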