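import Groth.Agent.S2612
import Groth.Agent.S3196
import Groth.Agent.Sga67.SymAlg
import Groth.Agent.Ega4dB.FiberDepth
import Groth.Agent.CalgA.SerreLocal
import Mathlib.RingTheory.KrullDimension.Regular
import Mathlib.RingTheory.Regular.Flat

/-!
# Depth of `A/I^n` for an ideal generated by a regular sequence

`depth_le_depth_pow`: `depth (A/I) ≤ depth (A/I^n)` (over a Noetherian local ring) for `I` generated by a quasi-regular
sequence.
-/

set_option autoImplicit false
universe u

namespace K183.PowDepth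

open Groth.Agent.Localalg.Depth Groth.Agent.S2612 Groth.Agent.S3196

variable {A : Type u} [CommRing A] {c : ℕ} (f : Fin c → A)

/-- The graded piece mapping into `A / I^(n+1)`. -/
noncomputable def grMap' (n : ℕ) : Gr f n →ₗ[A] (A ⧸ Ideal.span (Set.range f) ^ (n + 1)) :=
  Submodule.mapQ _ _ (Ideal.span (Set.range f) ^ n).subtype le_rfl

theorem grMap'_injective (n : ℕ) : Function.Injective (grMap' f n) := by
  rw [← LinearMap.ker_eq_bot, grMap', Submodule.ker_mapQ, Submodule.mkQ_map_self]

theorem grMap'_exact (n : ℕ) :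
    Function.Exact (grMap' f n) (Submodule.factor (Ideal.pow_le_pow_right (Nat.le_succ n) :
      Ideal.span (Set.range f) ^ (n + 1) ≤ Ideal.span (Set.range f) ^ n)) := by
  intro x
  obtain ⟨m, rfl⟩ := Submodule.Quotient.mk_surjective _ x
  constructor
  · intro h
    have hm : m ∈ Ideal.span (Set.range f) ^ n := by
      rw [← Submodule.Quotient.mk_eq_zero]
      exact h
    exact ⟨Submodule.Quotient.mk ⟨m, hm⟩, rfl⟩
  · rintro ⟨y, hy⟩
    obtain ⟨z, rfl⟩ := Submodule.Quotient.mk_surjective _ y
    rw [← hy]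
    change Submodule.Quotient.mk (z : A) = 0
    rw [Submodule.Quotient.mk_eq_zero]
    exact z.2

theorem depth_le_depth_pow [IsNoetherianRing A] [IsLocalRing A] (hf : CAlgX.IsQuasiRegular f) (n : ℕ) :
    LocCoh.depth A (A ⧸ Ideal.span (Set.range f)) ≤
      LocCoh.depth A (A ⧸ Ideal.span (Set.range f) ^ n) := by
  induction n with
  | zero =>
    have : Subsingleton (A ⧸ Ideal.span (Set.range f) ^ 0) := by
      rw [pow_zero, Ideal.one_eq_top]
      exact Ideal.Quotient.subsingleton_iff.2 rfl
    rw [LocCoh.depth, LocCoh.depth, idealDepth_eq_top_of_subsingleton _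
      (A ⧸ Ideal.span (Set.range f) ^ 0)]
    exact le_top
  | succ n ih =>
    have hfin : Finite {d : Fin c →₀ ℕ // d.degree = n} :=
      (Set.Finite.subset (Finsupp.finite_of_degree_le n) (fun d hd => le_of_eq hd) :
        ({d : Fin c →₀ ℕ | d.degree = n}).Finite).to_subtype
    obtain ⟨r, ⟨e⟩⟩ := Finite.exists_equiv_fin {d : Fin c →₀ ℕ // d.degree = n}
    let e1 : Gr f n ≃ₗ[A] (Fin r → A ⧸ Ideal.span (Set.range f)) :=
      (grEquiv f n hf) ≪≫ₗ LinearEquiv.funCongrLeft A (A ⧸ Ideal.span (Set.range f)) e.symm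
    have hfG : Module.Finite A (Gr f n) := Module.Finite.equiv e1.symm
    have h1 : LocCoh.depth A (A ⧸ Ideal.span (Set.range f)) ≤ LocCoh.depth A (Gr f n) := by
      rw [LocCoh.depth, LocCoh.depth, idealDepth_congr_equiv _ e1]
      exact le_idealDepth_pi _ _ r
    exact (le_min h1 ih).trans (idealDepth_shortExact₂ _ (grMap' f n)
      (Submodule.factor _) (grMap'_injective f n)
      (Submodule.factor_surjective _) (grMap'_exact f n))

/-- The same for a weakly regular sequence given as a list. -/
theorem depth_le_depth_pow_list [IsNoetherianRing A] [IsLocalRing A] (rs : List A)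
    (hrs : RingTheory.Sequence.IsWeaklyRegular A rs) (n : ℕ) :
    LocCoh.depth A (A ⧸ Ideal.ofList rs) ≤ LocCoh.depth A (A ⧸ Ideal.ofList rs ^ n) := by
  have h1 : Ideal.span (Set.range rs.get) = Ideal.ofList rs := by
    rw [Ideal.ofList]
    congr 1
    ext x
    simp [List.mem_iff_get]
  have h2 : CAlgX.IsQuasiRegular rs.get :=
    Groth.Agent.Sga67.SymAlg.isQuasiRegular_of_isWeaklyRegular (f := rs.get) (by
      rw [List.ofFn_get]; exact hrs)
  have h3 := depth_le_depth_pow rs.get h2 n
  rwa [h1] at h3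

/-- A Noetherian local ring, `rs` a regular sequence in its maximal ideal, `A/(rs)` a normal domain, and
`length rs + 2 ≤ dim A`.  Then `A/(rs)^n` has depth at least two. -/
theorem two_le_depth_pow [IsNoetherianRing A] [IsLocalRing A] (rs : List A)
    (hrs : RingTheory.Sequence.IsRegular A rs) (hdom : IsDomain (A ⧸ Ideal.ofList rs))
    (hn : IsIntegrallyClosed (A ⧸ Ideal.ofList rs))
    (hdim : ((rs.length + 2 : ℕ) : WithBot ℕ∞) ≤ ringKrullDim A) (n : ℕ) :
    (2 : ℕ∞) ≤ LocCoh.depth A (A ⧸ Ideal.ofList rs ^ n) := by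
  refine le_trans ?_ (depth_le_depth_pow_list rs hrs.toIsWeaklyRegular n)
  have hloc : IsLocalRing (A ⧸ Ideal.ofList rs) :=
    IsLocalRing.of_surjective' (Ideal.Quotient.mk _) Ideal.Quotient.mk_surjective
  have h1 : LocCoh.depth A (A ⧸ Ideal.ofList rs) =
      LocCoh.depth (A ⧸ Ideal.ofList rs) (A ⧸ Ideal.ofList rs) :=
    Groth.Agent.Ega4dB.FiberDepth.depth_eq_of_semilinear (Ideal.Quotient.mk (Ideal.ofList rs))
      Ideal.Quotient.mk_surjective (AddEquiv.refl _) (fun r n => by
        obtain ⟨n, rfl⟩ := Ideal.Quotient.mk_surjective n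
        rfl)
  rw [h1]
  apply Groth.Agent.CalgA.SerreLocal.two_le_depth_of_isIntegrallyClosed
  intro h
  have h2 := ringKrullDim_add_length_eq_ringKrullDim_of_isRegular rs hrs
  rw [← h2] at hdim
  have h3 : ringKrullDim (A ⧸ Ideal.ofList rs) + (rs.length : WithBot ℕ∞) ≤
      (1 : WithBot ℕ∞) + (rs.length : WithBot ℕ∞) := by gcongr
  have h4 := hdim.trans h3
  have h5 : ((rs.length + 2 : ℕ) : WithBot ℕ∞) ≤ ((1 + rs.length : ℕ) : WithBot ℕ∞) := by
    refine h4.trans_eq ?_
    push_cast
    rfl
  have h6 : rs.length + 2 ≤ 1 + rs.length := by exact_mod_cast h5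
  omega

section Loc

variable (I q : Ideal A) [q.IsPrime] (Q : Ideal (A ⧸ I)) [Q.IsPrime]
  (h : q = Q.comap (Ideal.Quotient.mk I))

include h in
theorem map_primeCompl : Submonoid.map (Ideal.Quotient.mk I) q.primeCompl = Q.primeCompl := by
  ext x
  obtain ⟨x, rfl⟩ := Ideal.Quotient.mk_surjective x
  constructor
  · rintro ⟨y, hy, hyx⟩
    rw [← hyx]
    intro hQ
    apply hy
    rw [h]
    exact hQ
  · intro hx
    refine ⟨x, fun hq => hx ?_, rfl⟩
    rw [h] at hq
    exact hq

theorem localRingHom_surjective :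
    Function.Surjective (Localization.localRingHom q Q (Ideal.Quotient.mk I) h) := by
  intro y
  obtain ⟨b, s, rfl⟩ := IsLocalization.exists_mk'_eq Q.primeCompl y
  obtain ⟨a, rfl⟩ := Ideal.Quotient.mk_surjective b
  obtain ⟨s, hs⟩ := s
  have hs' := hs
  rw [← map_primeCompl I q Q h] at hs'
  obtain ⟨t, ht, rfl⟩ := hs'
  refine ⟨IsLocalization.mk' _ a ⟨t, ht⟩, ?_⟩
  rw [Localization.localRingHom_mk']

theorem ker_localRingHom :
    RingHom.ker (Localization.localRingHom q Q (Ideal.Quotient.mk I) h) =
      I.map (algebraMap A (Localization.AtPrime q)) := by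
  have := IsLocalization.ker_map (S := Localization.AtPrime q) (Localization.AtPrime Q)
    (Ideal.Quotient.mk I) (map_primeCompl I q Q h)
  rw [Ideal.mk_ker] at this
  exact this

/-- `A_q / I A_q ≅ (A/I)_Q`. -/
noncomputable def locEquiv :
    (Localization.AtPrime q ⧸ I.map (algebraMap A (Localization.AtPrime q))) ≃+*
      Localization.AtPrime Q :=
  (Ideal.quotEquivOfEq (ker_localRingHom I q Q h).symm).trans
    (RingHom.quotientKerEquivOfSurjective (localRingHom_surjective I q Q h))

theorem locEquiv_mk (x : Localization.AtPrime q) :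
    locEquiv I q Q h (Ideal.Quotient.mk _ x) =
      Localization.localRingHom q Q (Ideal.Quotient.mk I) h x := rfl

include h in
theorem depth_loc : LocCoh.depth (Localization.AtPrime Q) (Localization.AtPrime Q) =
    LocCoh.depth (Localization.AtPrime q)
      (Localization.AtPrime q ⧸ I.map (algebraMap A (Localization.AtPrime q))) := by
  symm
  refine Groth.Agent.Ega4dB.FiberDepth.depth_eq_of_semilinear
    (Localization.localRingHom q Q (Ideal.Quotient.mk I) h) (localRingHom_surjective I q Q h)
    (locEquiv I q Q h).toAddEquiv ?_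
  intro r n
  obtain ⟨n, rfl⟩ := Ideal.Quotient.mk_surjective n
  change locEquiv I q Q h (Ideal.Quotient.mk _ (r * n)) = _ * locEquiv I q Q h (Ideal.Quotient.mk _ n)
  rw [locEquiv_mk, locEquiv_mk, map_mul]

end Loc

/-- In a Noetherian ring, a prime generated by a regular sequence has height its length. -/
theorem height_eq_length [IsNoetherianRing A] (p : Ideal A) [p.IsPrime] (rs : List A)
    (hrs : RingTheory.Sequence.IsWeaklyRegular A rs) (hp : Ideal.ofList rs = p) :
    (p.height : WithBot ℕ∞) = rs.length := by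
  have hmem : ∀ r ∈ rs, r ∈ p := fun r hr => by
    rw [← hp]; exact Ideal.subset_span hr
  have h1 := hrs.isRegular_of_isLocalization_of_mem (Localization.AtPrime p) p hmem
  have h2 := ringKrullDim_add_length_eq_ringKrullDim_of_isRegular _ h1
  rw [IsLocalization.AtPrime.ringKrullDim_eq_height p (Localization.AtPrime p)] at h2
  rw [← h2, List.length_map]
  have h3 : Ideal.ofList (rs.map (algebraMap A (Localization.AtPrime p))) =
      IsLocalRing.maximalIdeal (Localization.AtPrime p) := by
    rw [← Ideal.map_ofList, hp, Localization.AtPrime.map_eq_maximalIdeal]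
  rw [h3]
  have h4 : ringKrullDim (Localization.AtPrime p ⧸
      IsLocalRing.maximalIdeal (Localization.AtPrime p)) = 0 :=
    ringKrullDim_eq_zero_of_field (IsLocalRing.ResidueField (Localization.AtPrime p))
  rw [h4, zero_add]

/-- The depth estimate at a point of `V(p)`. -/
theorem two_le_depth_quotient_pow [IsNoetherianRing A] (p : Ideal A) [p.IsPrime] (rs : List A)
    (hrs : RingTheory.Sequence.IsWeaklyRegular A rs) (hp : Ideal.ofList rs = p)
    (hn : IsIntegrallyClosed (A ⧸ p)) (m : ℕ) (Q : Ideal (A ⧸ p ^ m)) [Q.IsPrime]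
    (hQ : p ≤ Q.comap (Ideal.Quotient.mk (p ^ m)))
    (hht : p.height + 2 ≤ (Q.comap (Ideal.Quotient.mk (p ^ m))).height) :
    (2 : ℕ∞) ≤ LocCoh.depth (Localization.AtPrime Q) (Localization.AtPrime Q) := by
  let q : Ideal A := Q.comap (Ideal.Quotient.mk (p ^ m))
  have hq : q.IsPrime := inferInstance
  have hmem : ∀ r ∈ rs, r ∈ q := fun r hr => hQ (by
    rw [← hp]; exact Ideal.subset_span hr)
  rw [depth_loc (p ^ m) q Q rfl]
  have hreg := hrs.isRegular_of_isLocalization_of_mem (Localization.AtPrime q) q hmem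
  have hI : Ideal.ofList (rs.map (algebraMap A (Localization.AtPrime q))) =
      p.map (algebraMap A (Localization.AtPrime q)) := by rw [← Ideal.map_ofList, hp]
  -- the normal domain `(A/p)_{q}`
  let Q' : Ideal (A ⧸ p) := q.map (Ideal.Quotient.mk p)
  have hker : RingHom.ker (Ideal.Quotient.mk p) ≤ q := by rw [Ideal.mk_ker]; exact hQ
  have hQ' : Q'.IsPrime := Ideal.map_isPrime_of_surjective Ideal.Quotient.mk_surjective hker
  have hqQ' : q = Q'.comap (Ideal.Quotient.mk p) := by
    rw [Ideal.comap_map_of_surjective _ Ideal.Quotient.mk_surjective]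
    refine le_antisymm le_sup_left (sup_le le_rfl ?_)
    exact hker
  let e := locEquiv p q Q' hqQ'
  have hdom : IsDomain (Localization.AtPrime q ⧸
      Ideal.ofList (rs.map (algebraMap A (Localization.AtPrime q)))) := by
    rw [hI]
    exact MulEquiv.isDomain (Localization.AtPrime Q') e.toMulEquiv
  have hnorm : IsIntegrallyClosed (Localization.AtPrime q ⧸
      Ideal.ofList (rs.map (algebraMap A (Localization.AtPrime q)))) := by
    have h0 : IsIntegrallyClosed (Localization.AtPrime Q') :=
      isIntegrallyClosed_of_isLocalization _ Q'.primeCompl Q'.primeCompl_le_nonZeroDivisors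
    rw [hI]
    exact IsIntegrallyClosed.of_equiv e.symm
  have hdim : (((rs.map (algebraMap A (Localization.AtPrime q))).length + 2 : ℕ) : WithBot ℕ∞) ≤
      ringKrullDim (Localization.AtPrime q) := by
    rw [IsLocalization.AtPrime.ringKrullDim_eq_height q, List.length_map]
    have h1 := height_eq_length p rs hrs hp
    have h2 : ((p.height + 2 : ℕ∞) : WithBot ℕ∞) ≤ (q.height : WithBot ℕ∞) :=
      WithBot.coe_le_coe.2 hht
    refine le_trans (le_of_eq ?_) h2
    push_cast
    rw [h1]
    rfl
  have key := two_le_depth_pow _ hreg hdom hnorm hdim m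
  rw [hI, ← Ideal.map_pow] at key
  exact key

end K183.PowDepth
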