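import Groth.Agent.Lef.K183.DepthPushF
import Groth.Agent.Sga2lef.H102.Final
import Groth.Agent.S0019

/-!
# Pro-vanishing of `H^i(X, 𝓘^m 𝔽)` for the zero scheme of a section of an ample module, `𝔽` coherent
-/

set_option autoImplicit false
universe u
open CategoryTheory CategoryTheory.Limits AlgebraicGeometry Opposite TopologicalSpace

namespace K183.ProzeroF

open Groth.Agent
open Groth.Agent.Sga2.TwIt Groth.Agent.Sga2.NegSec Groth.Agent.Sga2
open Groth.Agent.Sga2lef.H102 Groth.Agent.Sga2lef.H102.TwSec Groth.Agent.Sga2lef.H102.SplitExt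
open Groth.Agent.Sga2lef.H102.Final
open Groth.Agent.CurvesC.ProjSpaceBasic (Dp T)
open Groth.Agent.VarietyA.EulerLES
open Groth.Agent.VarietyB Groth.Agent.VarietyB.ProjGlue Groth.Agent.VarietyB.Segre
open Groth.Agent.FormalB.KQuot K183.TransferF

theorem isCoh_push {X Y : Scheme.{u}} (f : X ⟶ Y) [IsFinite f] [IsLocallyNoetherian Y]
    {M : X.Modules} (hM : Coh.IsCoh M) : Coh.IsCoh ((Scheme.Modules.pushforward f).obj M) := by
  exact Groth.Agent.S0019.result f M hM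

/-- Pro-vanishing. -/
theorem prozero (k : Type u) [Field k] (X : Scheme.{u}) (f : X ⟶ Spec (CommRingCat.of k)) [IsProper f]
    (L : X.Modules) (hL : CohB1.IsAmple L) (s : Coh.structureModule X ⟶ L) (𝔽 : X.Modules) (h𝔽 : Coh.IsCoh 𝔽)
    (n : ℕ)
    (hd : ∀ p : X, p ∉ (PicF2.zeroScheme L s).support → IsClosed ({p} : Set X) →
      (n : ℕ∞) < LocCoh.depth (X.presheaf.stalk p) (𝔽.presheaf.stalk p)) (i : ℕ) (hi : i ≤ n)
    {Q : ℕ → X.Modules} {π : ∀ n, 𝔽 ⟶ Q n} (hπ : ∀ n, IsKQuot ((PicF2.zeroScheme L s) ^ (n + 1)) (π n)) (l : ℕ) :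
    ∃ M : ℕ, l ≤ M ∧ ∀ g : kernel (π M) ⟶ kernel (π l), g ≫ kernel.ι (π l) = kernel.ι (π M) →
      mapΓ g i = 0 := by
  obtain ⟨r, D, hD, h0, h1⟩ := Groth.Agent.Pi1C.LefEmb.exists_isClosedData f hL s
  let ι : X ⟶ CohB1.ProjSpace r k := D.toProjSpace f
  have hι : IsClosedImmersion ι := hD.isClosedImmersion
  have hpre : ∀ j, ι ⁻¹ᵁ (Dp r k j) = D.U j := fun j => D.preimage_basicOpen hD.basicOpen f j
  obtain ⟨θ⟩ := EszProj68.isInverseOf_twist k r
  have hXn : IsLocallyNoetherian X := LocallyOfFiniteType.isLocallyNoetherian f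
  choose p hp hc using PnSec.exists_gen_std k r θ
  obtain ⟨c, e, hgood⟩ := exists_good' ι 𝔽 (PnSec.sec0 θ (T r k 0)) h𝔽 (Dp r k)
    (Groth.Agent.CurvesC.ProjSpaceBasic.isAffineOpen_Dp r k) (Groth.Agent.CurvesC.ProjSpaceBasic.iSup_Dp r k)
    p hp (PicF2.zeroScheme L s) (fun j => by
      rw [hc]
      refine mem_of_eq _ _ (hD.affine j) (hpre j).ge (hpre j) _ ?_
      have h2 := Groth.Agent.Ega2.PnMap.appLE_ratio D f j 0 (hpre j).ge
      have h3 := h1 j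
      rw [← h2] at h3
      exact h3) (fun j x hx hxs => by
      rw [hc]
      have h2 : X.basicOpen (ι.app (Dp r k j) (ProjStd.ratio (Fin (r + 1)) k j 0)) =
          ι ⁻¹ᵁ (CohB1.ProjSpace r k).basicOpen (ProjStd.ratio (Fin (r + 1)) k j 0) :=
        (Scheme.preimage_basicOpen ι _).symm
      rw [h2, PnSec.basicOpen_ratio]
      refine ⟨hx, ?_⟩
      have h3 : x ∈ ι ⁻¹ᵁ (Dp r k 0) := by
        rw [hpre 0]
        exact (h0 x).mpr hxs
      exact h3)
  have hnoeth := Groth.Agent.Sga5.ProjReg.isNoetherian_projSpace r k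
  have hG : Coh.IsCoh (K183.TransferF.G ι 𝔽) := isCoh_push ι h𝔽
  have hF := K183.TransferF.isCoh_F ι 𝔽 (isInvertible_tw k r (-1)) (PnSec.sec0 θ (T r k 0)) c hG
  have hnul := nul_Pn k r θ _ hF n (K183.TransferF.lt_depth_F ι 𝔽 (isInvertible_tw k r (-1))
    (PnSec.sec0 θ (T r k 0)) c (PnSec.isLocus k r θ) n (fun x hx hxc => hd x (by
      rw [← h0 x, ← hpre 0]
      exact hx) hxc)) i hi
  obtain ⟨M, hM, hM'⟩ := K183.TransferF.exists_zero ι 𝔽 (isInvertible_tw k r (-1)) (PnSec.sec0 θ (T r k 0)) c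
    (PicF2.zeroScheme L s) e hgood h𝔽.1 Nat.one_pos i hnul hπ l
  exact ⟨M, hM, fun g hg => mapΓ_eq_zero_of_push ι _ i (hM' g hg)⟩

end K183.ProzeroF
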