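import Groth.Agent.Lef.K183.SecFormal
import Groth.Agent.Lef.K183.ProzeroF
import Groth.Agent.Lef.K183.BijProzero
import Groth.Agent.CurvesB.HZero
import Groth.Agent.S1575
import Groth.Agent.CycA.ClosurePt
import Groth.Agent.Sga2.ParaExt
import Groth.Agent.Pi1C.LefFinal

/-!
# Sections of a coherent module and of its completion along the zero scheme of a section of an ample module
-/

set_option autoImplicit false
universe u

open CategoryTheory AlgebraicGeometry Opposite

namespace K183.SecAmple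

open AlgebraicGeometry.Scheme.Modules FSch K183.SecFormal
open Groth.Agent Groth.Agent.FormalB.KQuot
open Groth.Agent.Sga2lef.H96.ModSysPush
open Groth.Agent.CurvesB.HZero (equivAdd equivAdd_map)

/-- A point of a proper `k`-scheme whose closure is contained in an affine open is closed. -/
theorem isClosed_of_affine {k : Type u} [Field k] {X : Scheme.{u}} (f : X ⟶ Spec (CommRingCat.of k))
    [IsProper f] {W : X.Opens} (hW : IsAffineOpen W) (x : X) (hx : ∀ y, x ⤳ y → y ∈ W) :
    IsClosed ({x} : Set X) := by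
  obtain ⟨Z, i, _, _, hgen, hrange⟩ := CycA.ClosurePt.exists_closure_subscheme x
  have hr : Set.range i ⊆ Set.range W.ι := by
    rw [Scheme.Opens.range_ι, hrange]
    intro y hy
    exact hx y (specializes_iff_mem_closure.2 hy)
  let l := IsOpenImmersion.lift W.ι i hr
  have hl : l ≫ W.ι = i := IsOpenImmersion.lift_fac _ _ _
  have hlc : IsClosedImmersion l := by
    have : IsClosedImmersion (l ≫ W.ι) := by rw [hl]; infer_instance
    exact .of_comp l W.ι
  have : IsAffine W := hW
  have : IsAffine Z := isAffine_of_isAffineHom l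
  have hf : IsField Γ(Z, ⊤) := isField_of_universallyClosed k (i ≫ f)
  have := Groth.Agent.Sga2.ParaExt.subsingleton_of_isField hf
  have : Set.range i = {x} := by
    apply Set.Subset.antisymm
    · rintro _ ⟨z, rfl⟩
      rw [Subsingleton.elim z (genericPoint Z), hgen]
      rfl
    · rintro _ rfl
      exact ⟨_, hgen⟩
  rw [← this]
  exact i.isClosedEmbedding.isClosed_range

theorem lt_depth_of_isClosed {X : Scheme.{u}} (F : X.Modules) (n : ℕ) (x : X) (hx : IsClosed ({x} : Set X))
    (h : (n : WithBot ℕ∞) < (LocCoh.depth (X.presheaf.stalk x) (F.presheaf.stalk x) : WithBot ℕ∞) +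
      topologicalKrullDim ↥(closure ({x} : Set X))) :
    (n : ℕ∞) < LocCoh.depth (X.presheaf.stalk x) (F.presheaf.stalk x) := by
  have h1 : topologicalKrullDim ↥(closure ({x} : Set X)) ≤ 0 := by
    rw [hx.closure_eq]
    have : DiscreteTopology ({x} : Set X) := inferInstance
    exact topologicalKrullDim_zero_of_discreteTopology ({x} : Set X)
  have h2 := h.trans_le (add_le_add le_rfl h1)
  rw [add_zero] at h2
  exact_mod_cast h2

/-- Restriction of sections of a coherent module from `X` to an open containing all points of depth `≤ 1`. -/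
theorem bijective_res {X : Scheme.{u}} [IsLocallyNoetherian X] {F : X.Modules} (hF : Coh.IsCoh F) (V : X.Opens)
    (hd : ∀ x : X, x ∉ V → 2 ≤ LocCoh.depth (X.presheaf.stalk x) (F.presheaf.stalk x)) :
    Function.Bijective (F.presheaf.map (homOfLE (le_top : V ≤ ⊤)).op) := by
  have h := Groth.Agent.S1575.result X F hF V hd ⊤
  have h1 : ∀ (W : X.Opens) (e : W ≤ ⊤) (hW : W = V),
      Function.Bijective (F.presheaf.map (homOfLE e).op) →
      Function.Bijective (F.presheaf.map (homOfLE (le_top : V ≤ ⊤)).op) := by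
    rintro W e rfl h
    exact h
  exact h1 _ inf_le_left (top_inf_eq V) h

variable {X : Scheme.{u}} {𝓘 : X.IdealSheafData}

/-- Transfer of the comparison from `X` to an open `V` containing `V(𝓘)`. -/
theorem transfer {F : X.Modules} (V : X.Opens) (hV : (𝓘.support : Set X) ⊆ (V : Set X))
    (hres : Function.Bijective (F.presheaf.map (homOfLE (le_top : V ≤ ⊤)).op))
    (h1 : ∀ σ : Γ(F, ⊤), (∀ n, (un 𝓘 F n).app ⊤ σ = 0) → σ = 0)
    (h2 : ∀ y : ∀ n, Γ(pm (completionMod 𝓘 F) n, ⊤),
      (∀ n, (trn 𝓘 (completionMod 𝓘 F) n).app ⊤ (y (n + 1)) = y n) →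
        ∃ σ : Γ(F, ⊤), ∀ n, (un 𝓘 F n).app ⊤ σ = y n) :
    (∀ σ : Γ(F, V), (∀ n, (un 𝓘 F n).app V σ = 0) → σ = 0) ∧
    (∀ y : ∀ n, Γ(pm (completionMod 𝓘 F) n, V),
      (∀ n, (trn 𝓘 (completionMod 𝓘 F) n).app V (y (n + 1)) = y n) →
        ∃ σ : Γ(F, V), ∀ n, (un 𝓘 F n).app V σ = y n) := by
  have hpm := fun n => bijective_res_pm (completionMod 𝓘 F) n (le_top : V ≤ ⊤) (fun x hx _ => hV hx)
  have hnat : ∀ {M N : X.Modules} (φ : M ⟶ N) (σ : Γ(M, ⊤)),
      φ.app V (M.presheaf.map (homOfLE (le_top : V ≤ ⊤)).op σ) =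
        N.presheaf.map (homOfLE (le_top : V ≤ ⊤)).op (φ.app ⊤ σ) := fun φ σ =>
    (Groth.Agent.Ega2.Tens.app_res φ (homOfLE (le_top : V ≤ ⊤)) σ).symm
  constructor
  · intro σ hσ
    obtain ⟨σ, rfl⟩ := hres.2 σ
    rw [h1 σ fun n => (hpm n).1 (by rw [← hnat, hσ n, map_zero]), map_zero]
  · intro y hy
    choose y' hy' using fun n => (hpm n).2 (y n)
    obtain ⟨σ, hσ⟩ := h2 y' (fun n => (hpm n).1 (by rw [← hnat, hy', hy', hy n]))
    exact ⟨F.presheaf.map (homOfLE (le_top : V ≤ ⊤)).op σ, fun n => by rw [hnat, hσ, hy']⟩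

/-- The main theorem over all of `X`. -/
theorem main_top (k : Type u) [Field k] (X : Scheme.{u})
    (f : X ⟶ Spec (CommRingCat.of k)) [IsProper f] (L : X.Modules) (hL : CohB1.IsAmple L)
    (s : Coh.structureModule X ⟶ L) (F : X.Modules) (hF : Coh.IsCoh F)
    (hd : ∀ x : X, x ∉ (PicF2.zeroScheme L s).support → IsClosed ({x} : Set X) →
      (1 : ℕ∞) < LocCoh.depth (X.presheaf.stalk x) (F.presheaf.stalk x)) :
    (∀ σ : Γ(F, ⊤), (∀ n, (un (PicF2.zeroScheme L s) F n).app ⊤ σ = 0) → σ = 0) ∧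
    (∀ y : ∀ n, Γ(pm (completionMod (PicF2.zeroScheme L s) F) n, ⊤),
      (∀ n, (trn (PicF2.zeroScheme L s) (completionMod (PicF2.zeroScheme L s) F) n).app ⊤ (y (n + 1)) = y n) →
        ∃ σ : Γ(F, ⊤), ∀ n, (un (PicF2.zeroScheme L s) F n).app ⊤ σ = y n) := by
  have hK := fun n => isKQuot_un (𝓘 := PicF2.zeroScheme L s) hF.1 n
  obtain ⟨h1, h2⟩ := K183.BijProzero.bijective_of_prozero
    (trn (PicF2.zeroScheme L s) (completionMod (PicF2.zeroScheme L s) F))
    (un (PicF2.zeroScheme L s) F) (un_trn F) (fun n => (hK n).epi) 1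
    (fun i hi l => K183.ProzeroF.prozero k X f L hL s F hF 1 hd i hi hK l) 0 Nat.one_pos
  constructor
  · intro σ hσ
    have h3 := h1 ((equivAdd F).symm σ) (fun m => by
      apply (equivAdd _).injective
      rw [map_zero]
      refine (equivAdd_map _ _).trans ?_
      rw [AddEquiv.apply_symm_apply]
      exact hσ m)
    rwa [AddEquiv.map_eq_zero_iff] at h3
  · intro y hy
    obtain ⟨x, hx⟩ := h2 (fun n => (equivAdd _).symm (y n)) (fun m => by
      apply (equivAdd _).injective
      rw [AddEquiv.apply_symm_apply]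
      refine (equivAdd_map _ _).trans ?_
      rw [AddEquiv.apply_symm_apply]
      exact hy m)
    refine ⟨equivAdd F x, fun n => ?_⟩
    refine (equivAdd_map _ _).symm.trans ?_
    rw [← AddEquiv.eq_symm_apply]
    exact hx n

/-- **S9554**. -/
theorem main (k : Type u) [Field k] (X : Scheme.{u})
    (f : X ⟶ Spec (CommRingCat.of k)) [IsProper f] (L : X.Modules) (hL : CohB1.IsAmple L)
    (s : Coh.structureModule X ⟶ L) (F : X.Modules) (hF : Coh.IsCoh F)
    (hd : ∀ x : X, x ∉ ((PicF2.zeroScheme L s).support : Set X) → IsClosed ({x} : Set X) →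
      (1 : ℕ∞) < LocCoh.depth (X.presheaf.stalk x) (F.presheaf.stalk x))
    (V : X.Opens) (hV : ((PicF2.zeroScheme L s).support : Set X) ⊆ (V : Set X)) :
    (∀ σ : Γ(F, V), (∀ n, (un (PicF2.zeroScheme L s) F n).app V σ = 0) → σ = 0) ∧
    (∀ y : ∀ n, Γ(pm (completionMod (PicF2.zeroScheme L s) F) n, V),
      (∀ n, (trn (PicF2.zeroScheme L s) (completionMod (PicF2.zeroScheme L s) F) n).app V (y (n + 1)) = y n) →
        ∃ σ : Γ(F, V), ∀ n, (un (PicF2.zeroScheme L s) F n).app V σ = y n) := by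
  have hln : IsLocallyNoetherian X := LocallyOfFiniteType.isLocallyNoetherian f
  obtain ⟨h1, h2⟩ := main_top k X f L hL s F hF hd
  refine transfer V hV (bijective_res hF V fun x hx => ?_) h1 h2
  have hcl : ∀ y, x ⤳ y → y ∉ V := fun y hy hyV => hx (hy.mem_open V.isOpen hyV)
  have hxc : IsClosed ({x} : Set X) := by
    refine isClosed_of_affine f (Groth.Agent.Pi1C.LefFinal.isAffineOpen_genLocus f hL s) x
      fun y hy => ?_
    by_contra hyn
    refine hcl y hy (hV ?_)
    rw [Groth.Agent.Pi1C.LefFinal.support_eq hL.1 s]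
    exact hyn
  have := Order.add_one_le_of_lt (hd x (fun h => hx (hV h)) hxc)
  exact_mod_cast this

end K183.SecAmple
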