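import Groth.Agent.Lef.K183.ComplHom

/-!
# The completion of a module as an inverse system of quotients, sectionwise
-/

set_option autoImplicit false
universe u

open CategoryTheory AlgebraicGeometry Opposite

namespace K183.SecFormal

open AlgebraicGeometry.Scheme.Modules FSch
open Groth.Agent.FormalB.KQuot Groth.Agent.Sga2lef.H96.Transp
open Groth.Agent.Sga2lef.H96.ModSysPush Groth.Agent.Sga2lef.H96.ModSysRec

section Gen

variable {X Y Z : Scheme.{u}}

theorem tr_id (τ : Z ⟶ Y) (g : Y ⟶ X) (h : Z ⟶ X) (w : τ ≫ g = h) (F' : Y.Modules) :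
    tr τ g h w (𝟙 ((pullback τ).obj F')) =
      (pushforward g).map ((pullbackPushforwardAdjunction τ).unit.app F') ≫
        (pushforwardComp τ g).hom.app _ ≫ (pushforwardCongr w).hom.app _ := by
  rw [tr, Adjunction.homEquiv_id]
  rfl

theorem tr_unfold (τ : Z ⟶ Y) (g : Y ⟶ X) (h : Z ⟶ X) (w : τ ≫ g = h) {F' : Y.Modules} {F : Z.Modules}
    (e : (pullback τ).obj F' ⟶ F) :
    (pushforward g).map ((pullbackPushforwardAdjunction τ).unit.app F') ≫
        (pushforwardComp τ g).hom.app _ ≫ (pushforwardCongr w).hom.app _ ≫ (pushforward h).map e =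
      tr τ g h w e := by
  have h1 : tr τ g h w e = tr τ g h w (𝟙 _ ≫ e) := by rw [Category.id_comp]
  rw [h1, tr_comp, tr_id, Category.assoc, Category.assoc]

theorem unit_tr_qq (τ : Z ⟶ Y) (g : Y ⟶ X) (h : Z ⟶ X) (w : τ ≫ g = h) (M : X.Modules) :
    (pullbackPushforwardAdjunction g).unit.app M ≫ tr τ g h w (qq τ g h w M).hom =
      (pullbackPushforwardAdjunction h).unit.app M := by
  rw [← Adjunction.homEquiv_id, ← Adjunction.homEquiv_id]
  refine (homEquiv_tr τ g h w (qq τ g h w M).hom (𝟙 _) (𝟙 _)).2 ?_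
  rw [CategoryTheory.Functor.map_id, Category.id_comp, Category.comp_id]

/-- Sections of a direct image along a morphism with image in `V`. -/
theorem bijective_res_push (q : Z ⟶ X) {V W : X.Opens} (h : V ≤ W) (hq : ∀ z, q z ∈ W → q z ∈ V)
    (N : Z.Modules) :
    Function.Bijective (((pushforward q).obj N).presheaf.map (homOfLE h).op) := by
  have h1 : q ⁻¹ᵁ W = q ⁻¹ᵁ V := by
    ext z
    exact ⟨fun hz => hq z hz, fun hz => h hz⟩
  have h2 : ((pushforward q).obj N).presheaf.map (homOfLE h).op = N.presheaf.map (eqToHom h1.symm).op := rfl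
  rw [h2]
  have h3 : IsIso (N.presheaf.map (eqToHom h1.symm).op) := inferInstance
  exact (ConcreteCategory.isIso_iff_bijective _).1 h3

end Gen

variable {X : Scheme.{u}} {𝓘 : X.IdealSheafData}

theorem e_hom (F : X.Modules) (n : ℕ) : ((completionMod 𝓘 F).e n).hom =
    (qq ((completionAlong X 𝓘).ι n) (completionToX X 𝓘 (n + 1)) (completionToX X 𝓘 n)
      (ι_toX 𝓘 n) F).hom := by
  have h1 : ((completionMod 𝓘 F).e n).hom = (ee 𝓘 F n).hom := rfl
  rw [h1, ee_eq, e1_eq, e2_eq]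
  rfl

variable (𝓘) in
/-- The transition map of the statements. -/
noncomputable def trn (𝔐 : ModSys (completionAlong X 𝓘)) (n : ℕ) : pm 𝔐 (n + 1) ⟶ pm 𝔐 n :=
  (Scheme.Modules.pushforward (FSch.completionToX X 𝓘 (n + 1))).map
      ((Scheme.Modules.pullbackPushforwardAdjunction ((FSch.completionAlong X 𝓘).ι n)).unit.app
        (𝔐.F (n + 1))) ≫
    (Scheme.Modules.pushforwardComp ((FSch.completionAlong X 𝓘).ι n)
      (FSch.completionToX X 𝓘 (n + 1))).hom.app _ ≫
    (Scheme.Modules.pushforwardCongr (Scheme.IdealSheafData.inclusion_subschemeι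
      (FSch.pow_succ_le X 𝓘 n))).hom.app _ ≫
    (Scheme.Modules.pushforward (FSch.completionToX X 𝓘 n)).map (𝔐.e n).hom

theorem trn_eq (𝔐 : ModSys (completionAlong X 𝓘)) (n : ℕ) : trn 𝓘 𝔐 n = ptr 𝔐 n :=
  (tr_unfold ((completionAlong X 𝓘).ι n) (completionToX X 𝓘 (n + 1)) (completionToX X 𝓘 n)
    (ι_toX 𝓘 n) (𝔐.e n).hom).trans (ptr_eq 𝔐 n).symm

variable (𝓘) in
/-- The unit `F ⟶ F / 𝓘^(n+1) F`. -/
noncomputable def un (F : X.Modules) (n : ℕ) : F ⟶ pm (completionMod 𝓘 F) n :=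
  (pullbackPushforwardAdjunction (completionToX X 𝓘 n)).unit.app F

theorem un_trn (F : X.Modules) (n : ℕ) : un 𝓘 F (n + 1) ≫ trn 𝓘 (completionMod 𝓘 F) n = un 𝓘 F n := by
  rw [trn_eq, ptr_eq, e_hom]
  exact unit_tr_qq ((completionAlong X 𝓘).ι n) (completionToX X 𝓘 (n + 1)) (completionToX X 𝓘 n)
    (ι_toX 𝓘 n) F

theorem isKQuot_un {F : X.Modules} (hF : Coh.IsQCoh F) (n : ℕ) : IsKQuot (𝓘 ^ (n + 1)) (un 𝓘 F n) := by
  have h := isKQuot_of_isIso (𝓘 ^ (n + 1)) hF (𝟙 ((pullback (𝓘 ^ (n + 1)).subschemeι).obj F))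
  rw [Adjunction.homEquiv_id] at h
  exact h

theorem isKQuot_trn (𝔐 : ModSys (completionAlong X 𝓘)) (n : ℕ) :
    IsKQuot (𝓘 ^ (n + 1)) (trn 𝓘 𝔐 n) := by
  rw [trn_eq]
  exact isKQuot_ptr 𝔐 n

/-- Sections of the terms of the system over opens with the same trace on `V(𝓘)`. -/
theorem bijective_res_pm (𝔐 : ModSys (completionAlong X 𝓘)) (n : ℕ) {V W : X.Opens} (h : V ≤ W)
    (hV : ∀ x ∈ 𝓘.support, x ∈ W → x ∈ V) :
    Function.Bijective ((pm 𝔐 n).presheaf.map (homOfLE h).op) := by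
  refine bijective_res_push (𝓘 ^ (n + 1)).subschemeι h (fun z hz => hV _ ?_ hz) (𝔐.F n)
  have h1 : (𝓘 ^ (n + 1)).subschemeι z ∈ Set.range (𝓘 ^ (n + 1)).subschemeι := ⟨z, rfl⟩
  rw [Scheme.IdealSheafData.range_subschemeι, Scheme.IdealSheafData.support_pow_succ] at h1
  exact h1

section Text

variable (𝓘) (F : X.Modules)

/-- The transition map as it appears in the statements. -/
noncomputable def trs (n : ℕ) :=
  ((Scheme.Modules.pushforward (FSch.completionToX X 𝓘 (n + 1))).map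
            ((Scheme.Modules.pullbackPushforwardAdjunction ((FSch.completionAlong X 𝓘).ι n)).unit.app ((FSch.completionMod 𝓘 F).F (n + 1))) ≫
          (Scheme.Modules.pushforwardComp ((FSch.completionAlong X 𝓘).ι n) (FSch.completionToX X 𝓘 (n + 1))).hom.app _ ≫
          (Scheme.Modules.pushforwardCongr (Scheme.IdealSheafData.inclusion_subschemeι (FSch.pow_succ_le X 𝓘 n))).hom.app _ ≫
          (Scheme.Modules.pushforward (FSch.completionToX X 𝓘 n)).map ((FSch.completionMod 𝓘 F).e n).hom)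

theorem trs_eq_tr (n : ℕ) : trs 𝓘 F n = tr ((completionAlong X 𝓘).ι n) (completionToX X 𝓘 (n + 1))
    (completionToX X 𝓘 n) (ι_toX 𝓘 n) ((FSch.completionMod 𝓘 F).e n).hom :=
  tr_unfold ((completionAlong X 𝓘).ι n) (completionToX X 𝓘 (n + 1)) (completionToX X 𝓘 n)
    (ι_toX 𝓘 n) ((FSch.completionMod 𝓘 F).e n).hom

theorem trs_eq (n : ℕ) : trs 𝓘 F n = trn 𝓘 (completionMod 𝓘 F) n :=
  (trs_eq_tr 𝓘 F n).trans ((ptr_eq (completionMod 𝓘 F) n).symm.trans
    (trn_eq (completionMod 𝓘 F) n).symm)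

theorem app_trs (n : ℕ) (V : X.Opens) (y : (Scheme.Modules.presheaf ((Scheme.Modules.pushforward
      (FSch.completionToX X 𝓘 (n + 1))).obj ((FSch.completionMod 𝓘 F).F (n + 1)))).obj
        (Opposite.op V)) :
    Scheme.Modules.Hom.app (trs 𝓘 F n) V y = (trn 𝓘 (completionMod 𝓘 F) n).app V y :=
  congrArg (fun φ : pm (completionMod 𝓘 F) (n + 1) ⟶ pm (completionMod 𝓘 F) n =>
    Scheme.Modules.Hom.app φ V y) (trs_eq 𝓘 F n)

theorem text_eq (n : ℕ) :
    ((Scheme.Modules.pushforward (FSch.completionToX X 𝓘 (n + 1))).map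
            ((Scheme.Modules.pullbackPushforwardAdjunction ((FSch.completionAlong X 𝓘).ι n)).unit.app ((FSch.completionMod 𝓘 F).F (n + 1))) ≫
          (Scheme.Modules.pushforwardComp ((FSch.completionAlong X 𝓘).ι n) (FSch.completionToX X 𝓘 (n + 1))).hom.app _ ≫
          (Scheme.Modules.pushforwardCongr (Scheme.IdealSheafData.inclusion_subschemeι (FSch.pow_succ_le X 𝓘 n))).hom.app _ ≫
          (Scheme.Modules.pushforward (FSch.completionToX X 𝓘 n)).map ((FSch.completionMod 𝓘 F).e n).hom) = trs 𝓘 F n := rfl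

theorem app_congr (n : ℕ) (V : X.Opens) (y : (Scheme.Modules.presheaf ((Scheme.Modules.pushforward
      (FSch.completionToX X 𝓘 (n + 1))).obj ((FSch.completionMod 𝓘 F).F (n + 1)))).obj
        (Opposite.op V))
    {φ ψ : (Scheme.Modules.pushforward (FSch.completionToX X 𝓘 (n + 1))).obj
        ((𝟭 _).obj ((FSch.completionMod 𝓘 F).F (n + 1))) ⟶
      (Scheme.Modules.pushforward (FSch.completionToX X 𝓘 n)).obj ((FSch.completionMod 𝓘 F).F n)}
    (h : φ = ψ) : Scheme.Modules.Hom.app φ V y = Scheme.Modules.Hom.app ψ V y := by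
  subst h
  rfl

/-- The transition map of the statements on sections. -/
theorem app_text (n : ℕ) (V : X.Opens) (y : (Scheme.Modules.presheaf ((Scheme.Modules.pushforward
      (FSch.completionToX X 𝓘 (n + 1))).obj ((FSch.completionMod 𝓘 F).F (n + 1)))).obj
        (Opposite.op V)) :
    Scheme.Modules.Hom.app
          ((Scheme.Modules.pushforward (FSch.completionToX X 𝓘 (n + 1))).map
            ((Scheme.Modules.pullbackPushforwardAdjunction ((FSch.completionAlong X 𝓘).ι n)).unit.app ((FSch.completionMod 𝓘 F).F (n + 1))) ≫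
          (Scheme.Modules.pushforwardComp ((FSch.completionAlong X 𝓘).ι n) (FSch.completionToX X 𝓘 (n + 1))).hom.app _ ≫
          (Scheme.Modules.pushforwardCongr (Scheme.IdealSheafData.inclusion_subschemeι (FSch.pow_succ_le X 𝓘 n))).hom.app _ ≫
          (Scheme.Modules.pushforward (FSch.completionToX X 𝓘 n)).map ((FSch.completionMod 𝓘 F).e n).hom) V y = (trn 𝓘 (completionMod 𝓘 F) n).app V y :=
  (app_congr 𝓘 F n V y (text_eq 𝓘 F n)).trans (app_trs 𝓘 F n V y)

theorem app_unit (n : ℕ) (V : X.Opens) (σ : (Scheme.Modules.presheaf F).obj (Opposite.op V)) :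
    Scheme.Modules.Hom.app ((Scheme.Modules.pullbackPushforwardAdjunction
      (FSch.completionToX X 𝓘 n)).unit.app F) V σ = (un 𝓘 F n).app V σ := rfl

end Text

end K183.SecFormal
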