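import Groth.Agent.Lef.K183.IdTower
import Groth.Agent.Pi1A.QuotBase
import Groth.Agent.Pi1C.EtTraceSch
import Groth.Agent.Lefx.H80.Sheafify

/-!
# The transition maps of a tower of finite étale covers are quotients by `𝓘^(n+1)`
-/

set_option autoImplicit false
universe u

open CategoryTheory CategoryTheory.Limits AlgebraicGeometry Opposite TopologicalSpace

namespace K183.IdTower

open Groth.Agent.Pi1A.PushAlg Groth.Agent.FormalB.KQuot

variable {X : Scheme.{u}} {𝓘 : X.IdealSheafData}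

theorem isQCoh_pushO {Y : Scheme.{u}} (q : Y ⟶ X) [IsAffineHom q] : Coh.IsQCoh (pushO q) :=
  Groth.Agent.Sga67.CohBasic.isQCoh_push q (Groth.Agent.Ega2.QCohLocal.isQCoh_structureModule Y)

theorem killed_pushO_comp {Y : Scheme.{u}} (K : X.IdealSheafData) (g : Y ⟶ K.subscheme) (q : Y ⟶ X)
    (w : g ≫ K.subschemeι = q) : ClSub.KilledByIdeal K (pushO q) := by
  subst w
  intro V a ha m
  have h1 : K.subschemeι.app V.1 a = 0 := by
    have h2 := Scheme.IdealSheafData.ker_subschemeι_app K V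
    have h3 : a ∈ RingHom.ker (K.subschemeι.app V.1).hom := by rw [h2]; exact ha
    exact h3
  have h2 : (g ≫ K.subschemeι).app V.1 a = 0 := by
    have h4 : (g ≫ K.subschemeι).app V.1 a = g.app _ (K.subschemeι.app V.1 a) := by
      rw [Scheme.Hom.comp_app]
      rfl
    exact h4.trans ((congrArg _ h1).trans (map_zero _))
  have h3 : ∀ m' : Γ(pushO (g ≫ K.subschemeι), V.1),
      fn (g ≫ K.subschemeι) V.1 (a • m') = 0 := fun m' => by
    rw [fn_smul, h2, zero_mul]
  exact h3 m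

/-- A cartesian square over an inclusion of closed subschemes. -/
theorem isKQuot_of_isPullback {K K' : X.IdealSheafData} (hK : K' ≤ K) {R R' : Scheme.{u}}
    {t : R ⟶ R'} {π : R ⟶ K.subscheme} {π' : R' ⟶ K'.subscheme} [IsAffineHom π']
    (sq : IsPullback t π π' (Scheme.IdealSheafData.inclusion hK))
    {q : R ⟶ X} {q' : R' ⟶ X} (hq : π ≫ K.subschemeι = q) (hq' : π' ≫ K'.subschemeι = q')
    (h : t ≫ q' = q) : IsKQuot K (Groth.Agent.Pi1A.PushAlg.map t h) := by
  subst hq hq'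
  have haff : IsAffineHom π := MorphismProperty.of_isPullback sq inferInstance
  refine Groth.Agent.Lefx.H80.Sheafify.isKQuot_of_affine_cover (isQCoh_pushO _) (isQCoh_pushO _)
    (killed_pushO_comp K π _ rfl) _ fun x => ?_
  obtain ⟨V, hV, hx, -⟩ := exists_isAffineOpen_mem_and_subset (x := x) (U := ⊤) trivial
  have hW : IsAffineOpen (K.subschemeι ⁻¹ᵁ V) := hV.preimage _
  have hW' : IsAffineOpen (K'.subschemeι ⁻¹ᵁ V) := hV.preimage _
  have e : K.subschemeι ⁻¹ᵁ V ≤ Scheme.IdealSheafData.inclusion hK ⁻¹ᵁ (K'.subschemeι ⁻¹ᵁ V) := by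
    rw [← Scheme.Hom.comp_preimage, Scheme.IdealSheafData.inclusion_subschemeι]
  have hpo := Groth.Agent.Pi1C.EtTraceSch.isPushout_appLE sq hW' hW e
    (le_preimage t h V)
  have hcomp : ∀ r : Γ(X, V), (Scheme.IdealSheafData.inclusion hK).appLE _ _ e
      (K'.subschemeι.app V r) = K.subschemeι.app V r := by
    intro r
    have h1 : K'.subschemeι.app V ≫ (Scheme.IdealSheafData.inclusion hK).appLE _ _ e =
        K.subschemeι.app V := by
      rw [← Scheme.Hom.appLE_eq_app, Scheme.Hom.appLE_comp_appLE, ← Scheme.Hom.appLE_eq_app]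
      congr 1
      exact Scheme.IdealSheafData.inclusion_subschemeι hK
    exact congr($(h1) r)
  have hsurj : ∀ (L : X.IdealSheafData), Function.Surjective (L.subschemeι.app V) := by
    intro L
    exact (L.subschemeι.app_surjective V hV)
  have hgs : Function.Surjective ((Scheme.IdealSheafData.inclusion hK).appLE _ _ e) := by
    intro y
    obtain ⟨r, rfl⟩ := hsurj K y
    exact ⟨_, hcomp r⟩
  obtain ⟨h1, h2⟩ := Groth.Agent.Pi1A.QuotBase.of_isPushout hpo.flip hgs
  refine ⟨⟨V, hV⟩, hx, h1, fun s hs => ?_⟩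
  have hs' : fn (π' ≫ K'.subschemeι) V s ∈ RingHom.ker (t.appLE _ _ (le_preimage t h V)).hom := hs
  have hs2 := (Ideal.ext_iff.1 h2 _).1 hs'
  have hmul : ∀ (c : Γ(R', (π' ≫ K'.subschemeι) ⁻¹ᵁ V)),
      ∀ z ∈ K.ideal ⟨V, hV⟩ • (⊤ : Submodule Γ(X, V) Γ(pushO (π' ≫ K'.subschemeι), V)),
      sec (π' ≫ K'.subschemeι) V (c * fn (π' ≫ K'.subschemeι) V z) ∈
        K.ideal ⟨V, hV⟩ • (⊤ : Submodule Γ(X, V) Γ(pushO (π' ≫ K'.subschemeι), V)) := by
    intro c z hz
    refine Submodule.smul_induction_on hz ?_ ?_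
    · intro r hr m _
      have : sec (π' ≫ K'.subschemeι) V (c * fn (π' ≫ K'.subschemeι) V (r • m)) =
          r • sec (π' ≫ K'.subschemeι) V (c * fn (π' ≫ K'.subschemeι) V m) := by
        rw [fn_smul, smul_sec, mul_left_comm]
      rw [this]
      exact Submodule.smul_mem_smul hr trivial
    · intro x y hx hy
      rw [fn_add, mul_add, sec_add]
      exact Submodule.add_mem _ hx hy
  have key : ∀ b ∈ (RingHom.ker ((Scheme.IdealSheafData.inclusion hK).appLE _ _ e).hom).map
      (π'.app (K'.subschemeι ⁻¹ᵁ V)).hom, sec (π' ≫ K'.subschemeι) V b ∈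
        K.ideal ⟨V, hV⟩ • (⊤ : Submodule Γ(X, V) Γ(pushO (π' ≫ K'.subschemeι), V)) := by
    intro b hb
    refine Submodule.span_induction ?_ ?_ ?_ ?_ hb
    · rintro _ ⟨y, hy, rfl⟩
      obtain ⟨r, rfl⟩ := hsurj K' y
      have hr : r ∈ K.ideal ⟨V, hV⟩ := by
        rw [← Scheme.IdealSheafData.ker_subschemeι_app K ⟨V, hV⟩, RingHom.mem_ker]
        exact (hcomp r).symm.trans hy
      have : sec (π' ≫ K'.subschemeι) V (π'.app (K'.subschemeι ⁻¹ᵁ V) (K'.subschemeι.app V r)) =
          r • sec (π' ≫ K'.subschemeι) V 1 := by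
        rw [smul_sec, mul_one, Scheme.Hom.comp_app]
        rfl
      refine this ▸ Submodule.smul_mem_smul hr trivial
    · exact Submodule.zero_mem _
    · intro x y _ _ hx hy
      exact Submodule.add_mem _ hx hy
    · intro c x _ hx
      exact hmul c _ hx
  exact key _ hs2

theorem Tower.isKQuot_G (T : Tower 𝓘) (n : ℕ) :
    IsKQuot (𝓘 ^ (n + 1)) (T.G.map (homOfLE (Nat.le_succ n)).op) := by
  rw [T.G_map]
  exact isKQuot_of_isPullback (Lef.pow_succ_le 𝓘 n) (T.isPullback n) rfl rfl (T.t_q n)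

end K183.IdTower
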