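import Groth.Agent.Dcoh.DualFLF
import Groth.Agent.Dcoh.MonTm
import Groth.Agent.Pi1A.LimAlg
import Groth.Agent.Sga67.LocBasis
import Groth.Agent.S2733

/-!
# The trace form of a finite locally free algebra
-/

set_option autoImplicit false
universe u

open CategoryTheory AlgebraicGeometry Opposite MonoidalCategory

namespace K183.TraceForm

open scoped Groth.Agent.Dcoh.MonCat
open Groth.Agent.Dcoh.MonTm Groth.Agent.Pi1A.SheafAlg Groth.Agent.Pi1A.LimAlg
open scoped TensorProduct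

theorem trace_eq_sum {R A ι : Type*} [CommRing R] [CommRing A] [Algebra R A] [Module.Free R A]
    [Module.Finite R A] [Fintype ι] (a : ι → A) (φ : ι → Module.Dual R A)
    (h : ∀ c, ∑ i, φ i c • a i = c) (b : A) :
    Algebra.trace R A b = ∑ i, φ i (b * a i) := by
  have h1 : dualTensorHom R A A (∑ i, φ i ⊗ₜ[R] (b * a i)) = Algebra.lmul R A b := by
    ext c
    rw [map_sum, LinearMap.sum_apply]
    simp only [dualTensorHom_apply]
    change _ = b * c
    conv_rhs => rw [← h c, Finset.mul_sum]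
    refine Finset.sum_congr rfl fun i _ => ?_
    rw [mul_smul_comm]
  rw [Algebra.trace_apply, ← h1, LinearMap.trace_eq_contract_apply, map_sum]
  rfl

theorem bij_iff_of_comp {α β γ : Type*} (T : α → β) (E : β → γ) (B : α → γ)
    (hE : Function.Bijective E) (h : ∀ a, E (T a) = B a) :
    Function.Bijective T ↔ Function.Bijective B := by
  have h1 : B = E ∘ T := funext fun a => (h a).symm
  rw [h1]
  exact (Function.Bijective.of_comp_iff' hE _).symm

variable {X : Scheme.{u}} {M M' : X.Modules} [ExactPairing M M'] {V : X.Opens}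

/-- The evaluation of a section of the dual. -/
noncomputable def ev (f : Γ(M', V)) (m : Γ(M, V)) : Γ(X, V) := sc ((ε_ M M').app V (tm f m))

theorem ev_add (f : Γ(M', V)) (m n : Γ(M, V)) : ev f (m + n) = ev f m + ev f n := by
  rw [ev, tm_add, map_add]
  rfl

theorem add_ev (f g : Γ(M', V)) (m : Γ(M, V)) : ev (f + g) m = ev f m + ev g m := by
  rw [ev, add_tm, map_add]
  rfl

theorem ev_smul (f : Γ(M', V)) (r : Γ(X, V)) (m : Γ(M, V)) : ev f (r • m) = r * ev f m := by
  rw [ev, tm_smul, Scheme.Modules.Hom.app_smul]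
  rfl

theorem smul_ev (f : Γ(M', V)) (r : Γ(X, V)) (m : Γ(M, V)) : ev (r • f) m = r * ev f m := by
  rw [ev, smul_tm, Scheme.Modules.Hom.app_smul]
  rfl

/-- The evaluation as a linear map. -/
noncomputable def evL : Γ(M', V) →ₗ[Γ(X, V)] Γ(M, V) →ₗ[Γ(X, V)] Γ(X, V) :=
  LinearMap.mk₂ _ ev add_ev (fun r f m => smul_ev f r m) ev_add (fun r f m => ev_smul f r m)

theorem evL_apply (f : Γ(M', V)) (m : Γ(M, V)) : evL f m = ev f m := rfl

section Dual

variable {ι : Type*} [Fintype ι] {a : ι → Γ(M, V)} {f : ι → Γ(M', V)}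
  (h : (η_ M M').app V (cs 1) = ∑ i, tm (a i) (f i))

include h

theorem sum_ev_smul (m : Γ(M, V)) : ∑ i, ev (f i) m • a i = m := by
  have h0 := congr(($(ExactPairing.evaluation_coevaluation M M')).app V (tm (cs 1) m))
  rw [comp_ap, comp_ap, comp_ap, whiskerRight_tm, h, sum_tm, map_sum, map_sum] at h0
  simp only [associator_hom_tm, whiskerLeft_tm] at h0
  have h1 := congr((ρ_ M).hom.app V $h0)
  rw [map_sum, ← comp_ap _ (ρ_ M).hom, Iso.inv_hom_id, id_ap, leftUnitor_hom_tm, sc_cs, one_smul] at h1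
  simp only [rightUnitor_hom_tm] at h1
  exact h1

theorem sum_ev_smul' (g : Γ(M', V)) : ∑ i, ev g (a i) • f i = g := by
  have h0 := congr(($(ExactPairing.coevaluation_evaluation M M')).app V (tm g (cs 1)))
  rw [comp_ap, comp_ap, comp_ap, whiskerLeft_tm, h, tm_sum, map_sum, map_sum] at h0
  simp only [associator_inv_tm, whiskerRight_tm] at h0
  have h1 := congr((λ_ M').hom.app V $h0)
  rw [map_sum, ← comp_ap _ (λ_ M').hom, Iso.inv_hom_id, id_ap, rightUnitor_hom_tm, sc_cs, one_smul] at h1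
  simp only [leftUnitor_hom_tm] at h1
  exact h1

theorem evL_bijective : Function.Bijective (evL : Γ(M', V) →ₗ[Γ(X, V)] Γ(M, V) →ₗ[Γ(X, V)] Γ(X, V)) := by
  constructor
  · intro g g' hg
    rw [← sum_ev_smul' h g, ← sum_ev_smul' h g']
    refine Finset.sum_congr rfl fun i _ => ?_
    have := LinearMap.congr_fun hg (a i)
    rw [evL_apply, evL_apply] at this
    rw [this]
  · intro φ
    refine ⟨∑ i, φ (a i) • f i, ?_⟩
    ext m
    rw [map_sum, LinearMap.sum_apply]
    simp only [map_smul, LinearMap.smul_apply, smul_eq_mul, evL_apply]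
    conv_rhs => rw [← sum_ev_smul h m]
    rw [map_sum]
    refine Finset.sum_congr rfl fun i _ => ?_
    rw [map_smul, smul_eq_mul, mul_comm]

omit h in
theorem exists_dual (M M' : X.Modules) [ExactPairing M M'] (x : X) :
    ∃ (V : X.Opens), x ∈ V ∧ ∃ (n : ℕ) (a : Fin n → Γ(M, V)) (f : Fin n → Γ(M', V)),
      (η_ M M').app V (cs 1) = ∑ i, tm (a i) (f i) := by
  obtain ⟨V, i, hx, n, a, f, h⟩ := exists_sum_tm ((η_ M M').app ⊤ (cs 1)) (trivial : x ∈ (⊤ : X.Opens))
  refine ⟨V, hx, n, a, f, ?_⟩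
  rw [← h]
  have h1 := Groth.Agent.Ega2.Tens.app_res (η_ M M') i (cs 1)
  rw [← map_one (X.presheaf.map i.op).hom, ← cs_res]
  exact h1.symm

theorem dual_res {W : X.Opens} (i : W ⟶ V) :
    (η_ M M').app W (cs 1) = ∑ j, tm (M.presheaf.map i.op (a j)) (M'.presheaf.map i.op (f j)) := by
  have h1 := Groth.Agent.Ega2.Tens.app_res (η_ M M') i (cs 1)
  rw [h, map_sum, cs_res, map_one] at h1
  simp only [tm_res] at h1
  exact h1.symm

end Dual

section Form

/-- The map to the dual defined by a bilinear form. -/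
noncomputable def toDual (β : M ⊗ M ⟶ 𝟙_ X.Modules) : M ⟶ M' :=
  (ρ_ M).inv ≫ M ◁ η_ M M' ≫ (α_ M M M').inv ≫ β ▷ M' ≫ (λ_ M').hom

omit [ExactPairing M M'] in
/-- The multiplication. -/
noncomputable def mulH (S : AlgStr M) : M ⊗ M ⟶ M := mulHom S

omit [ExactPairing M M'] in
theorem mulH_tm (S : AlgStr M) (b c : Γ(M, V)) : (mulH S).app V (tm b c) = S.mul V b c :=
  mulHom_tmul S b c

variable (M') in
/-- The trace. -/
noncomputable def tau (S : AlgStr M) : M ⟶ 𝟙_ X.Modules :=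
  (ρ_ M).inv ≫ M ◁ η_ M M' ≫ (α_ M M M').inv ≫ mulH S ▷ M' ≫ (β_ M M').hom ≫ ε_ M M'

variable (M') in
/-- The trace form. -/
noncomputable def form (S : AlgStr M) : M ⊗ M ⟶ 𝟙_ X.Modules := mulH S ≫ tau M' S

variable {ι : Type*} [Fintype ι] {a : ι → Γ(M, V)} {f : ι → Γ(M', V)}
  (h : (η_ M M').app V (cs 1) = ∑ i, tm (a i) (f i))

include h

theorem toDual_app (β : M ⊗ M ⟶ 𝟙_ X.Modules) (b : Γ(M, V)) :
    (toDual β : M ⟶ M').app V b = ∑ i, sc (β.app V (tm b (a i))) • f i := by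
  rw [toDual, comp_ap, comp_ap, comp_ap, comp_ap, rightUnitor_inv_ap, whiskerLeft_tm, h, tm_sum,
    map_sum, map_sum, map_sum]
  simp only [associator_inv_tm, whiskerRight_tm, leftUnitor_hom_tm]

theorem ev_toDual (β : M ⊗ M ⟶ 𝟙_ X.Modules) (b m : Γ(M, V)) :
    ev ((toDual β : M ⟶ M').app V b) m = sc (β.app V (tm b m)) := by
  rw [toDual_app h, ← evL_apply, map_sum, LinearMap.sum_apply]
  simp only [map_smul, LinearMap.smul_apply, smul_eq_mul, evL_apply]
  conv_rhs => rw [← sum_ev_smul h m]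
  rw [tm_sum, map_sum]
  have h1 : ∀ i, sc (β.app V (tm b (a i))) * ev (f i) m =
      sc (β.app V (tm b (ev (f i) m • a i))) := by
    intro i
    rw [tm_smul, Scheme.Modules.Hom.app_smul, mul_comm]
    rfl
  simp only [h1]
  rfl

theorem tau_app (S : AlgStr M) (b : Γ(M, V)) :
    sc ((tau M' S).app V b) = ∑ i, ev (f i) (S.mul V b (a i)) := by
  rw [tau, comp_ap, comp_ap, comp_ap, comp_ap, comp_ap, rightUnitor_inv_ap, whiskerLeft_tm, h, tm_sum,
    map_sum, map_sum, map_sum, map_sum]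
  simp only [associator_inv_tm, whiskerRight_tm, mulH_tm, braiding_hom_tm]
  rfl

omit [ExactPairing M M'] [Fintype ι] h in
theorem sc_form_app [ExactPairing M M'] (S : AlgStr M) (b c : Γ(M, V)) :
    sc ((form M' S).app V (tm b c)) = sc ((tau M' S).app V (S.mul V b c)) := by
  rw [form, comp_ap, mulH_tm]

theorem tau_eq_trace (S : AlgStr M) [Module.Free Γ(X, V) (S.Sec V)] [Module.Finite Γ(X, V) (S.Sec V)]
    (b : S.Sec V) : sc ((tau M' S).app V (show Γ(M, V) from b)) = Algebra.trace Γ(X, V) (S.Sec V) b := by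
  have h1 := trace_eq_sum (R := Γ(X, V)) (A := S.Sec V) (fun i => (show S.Sec V from a i))
    (fun i => (show Module.Dual Γ(X, V) (S.Sec V) from (evL (f i) :
      Γ(M, V) →ₗ[Γ(X, V)] Γ(X, V)))) (fun c => sum_ev_smul h c) b
  rw [h1]
  exact tau_app h S _

theorem bijective_iff (S : AlgStr M) [Module.Free Γ(X, V) (S.Sec V)]
    [Module.Finite Γ(X, V) (S.Sec V)] :
    Function.Bijective ((toDual (form M' S) : M ⟶ M').app V) ↔
      Function.Bijective (Algebra.traceForm Γ(X, V) (S.Sec V)) := by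
  refine bij_iff_of_comp (γ := Module.Dual Γ(X, V) (S.Sec V))
    ((toDual (form M' S) : M ⟶ M').app V)
    (evL : Γ(M', V) →ₗ[Γ(X, V)] Γ(M, V) →ₗ[Γ(X, V)] Γ(X, V))
    (Algebra.traceForm Γ(X, V) (S.Sec V)) (evL_bijective h) fun b => ?_
  refine LinearMap.ext fun c => ?_
  refine Eq.trans ?_ (tau_eq_trace h S _)
  exact (ev_toDual h (form M' S) _ _).trans (sc_form_app S _ _)

end Form

end K183.TraceForm
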