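import Groth.Agent.Sga2lef.H102.Transfer
import Groth.Agent.FormalB.TrKQuot

/-!
# From nilpotence of `s` on negative twists on `Z` to pro-vanishing of `H^i(𝓘^m 𝔽)` on `X ⟶ Z`, coherent coefficients
-/

set_option autoImplicit false
universe u
open CategoryTheory CategoryTheory.Limits AlgebraicGeometry Opposite TopologicalSpace

namespace K183.TransferF

open Groth.Agent
open Groth.Agent.Ega4dA.GenSec (res resO IsGen res_self res_res res_smul res_add res_zero app_res eq_of_locally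
  exists_glue isInvertible_iff resO_resO)
open Groth.Agent.Sga2.TwIt Groth.Agent.Sga2.NegSec Groth.Agent.Sga2
open Groth.Agent.Sga2lef.H102.TwSec Groth.Agent.Sga2lef.H102.Lift
open Groth.Agent.Sga2lef.H102.Transfer (resO_app)
open Groth.Agent.VarietyA.EulerLES Groth.Agent.FormalB.KQuot

variable {X Z : Scheme.{u}} (ι : X ⟶ Z) (𝔽 : X.Modules) {P : Z.Modules} (hP : PicF.IsInvertible P) {a : ℕ} (s : Sec P a)

/-- `ι_* 𝔽`. -/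
noncomputable abbrev G : Z.Modules := (Scheme.Modules.pushforward ι).obj 𝔽

/-- sections of `ι_* 𝔽` from sections of `𝔽`. -/
noncomputable def toG {V : Z.Opens} (w : Γ(𝔽, ι ⁻¹ᵁ V)) : Γ(G ι 𝔽, V) := w

/-- sections of `𝔽` from sections of `ι_* 𝔽`. -/
noncomputable def ofG {V : Z.Opens} (w : Γ(G ι 𝔽, V)) : Γ(𝔽, ι ⁻¹ᵁ V) := w

theorem ofG_toG {V : Z.Opens} (w : Γ(𝔽, ι ⁻¹ᵁ V)) : ofG ι 𝔽 (toG ι 𝔽 w) = w := rfl
theorem toG_ofG {V : Z.Opens} (w : Γ(G ι 𝔽, V)) : toG ι 𝔽 (ofG ι 𝔽 w) = w := rfl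
theorem toG_zero {V : Z.Opens} : toG ι 𝔽 (0 : Γ(𝔽, ι ⁻¹ᵁ V)) = 0 := rfl

theorem smul_toG {V : Z.Opens} (r : Γ(Z, V)) (w : Γ(𝔽, ι ⁻¹ᵁ V)) :
    r • toG ι 𝔽 w = toG ι 𝔽 (ι.app V r • w) := rfl

theorem res_toG {V W : Z.Opens} (h : W ≤ V) (w : Γ(𝔽, ι ⁻¹ᵁ V)) :
    res (G ι 𝔽) h (toG ι 𝔽 w) = toG ι 𝔽 (res 𝔽 (show ι ⁻¹ᵁ W ≤ ι ⁻¹ᵁ V from fun _ hx => h hx) w) := rfl

/-- Opens of `Z` with a generator of `P` on which the needed local facts hold. -/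
structure Good (𝓘 : X.IdealSheafData) (c e : ℕ) (W : Z.Opens) (p : Γ(P, W)) (hp : IsGen P W p) : Prop where
  aff : IsAffineOpen (ι ⁻¹ᵁ W)
  tors : ∀ (m : ℕ) (w : Γ(𝔽, ι ⁻¹ᵁ W)), (ι.app W (s.c W p hp)) ^ (m + c) • w = 0 →
    (ι.app W (s.c W p hp)) ^ c • w = 0
  mem : ι.app W (s.c W p hp) ∈ 𝓘.ideal ⟨ι ⁻¹ᵁ W, aff⟩
  le : 𝓘.ideal ⟨ι ⁻¹ᵁ W, aff⟩ ^ e ≤ Ideal.span {ι.app W (s.c W p hp)}

section img

variable (c : ℕ)

/-- The image of `s ^ c` on `ι_* 𝔽`. -/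
noncomputable def F : Z.Modules := Abelian.image ((spow s c).hom hP (G ι 𝔽))

noncomputable def q : (It P (a * c)).obj (G ι 𝔽) ⟶ F ι 𝔽 hP s c := Abelian.factorThruImage _

noncomputable def j : F ι 𝔽 hP s c ⟶ G ι 𝔽 := Abelian.image.ι _

theorem q_j : q ι 𝔽 hP s c ≫ j ι 𝔽 hP s c = (spow s c).hom hP (G ι 𝔽) := Abelian.image.fac _

instance : Epi (q ι 𝔽 hP s c) := inferInstanceAs (Epi (Abelian.factorThruImage _))
instance : Mono (j ι 𝔽 hP s c) := inferInstanceAs (Mono (Abelian.image.ι _))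

theorem j_q {V : Z.Opens} (y : Γ((It P (a * c)).obj (G ι 𝔽), V)) :
    (j ι 𝔽 hP s c).app V ((q ι 𝔽 hP s c).app V y) = ((spow s c).hom hP (G ι 𝔽)).app V y := by
  rw [← q_j]
  rfl

theorem j_injective (V : Z.Opens) : Function.Injective ((j ι 𝔽 hP s c).app V) :=
  Smoothlim.ModKer.app_injective_of_mono _ V

include hP in
/-- local form of the sections of `F`. -/
theorem exists_local (V : Z.Opens) (y : Γ(F ι 𝔽 hP s c, V)) (z : Z) (hz : z ∈ V) (p : Γ(P, V)) (hp : IsGen P V p) :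
    ∃ (W : Z.Opens) (hW : W ≤ V) (_ : z ∈ W) (w : Γ(𝔽, ι ⁻¹ᵁ W)),
      (j ι 𝔽 hP s c).app W (res _ hW y) = toG ι 𝔽 (ι.app W (s.c W (res P hW p) (hp.mono hW)) ^ c • w) := by
  obtain ⟨W, hW, hzW, t, ht⟩ := exists_lift_of_epi (q ι 𝔽 hP s c) V y z hz
  obtain ⟨w, rfl⟩ := (ev_bijective (G ι 𝔽) (hp.mono hW) (a * c)).2 t
  refine ⟨W, hW, hzW, ofG ι 𝔽 w, ?_⟩
  rw [← ht, j_q, Sec.hom_ev _ hP _ (hp.mono hW), spow_c, ← toG_ofG ι 𝔽 w, smul_toG, map_pow, ofG_toG]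

theorem isCoh_F [IsLocallyNoetherian Z] (hG : Coh.IsCoh (G ι 𝔽)) : Coh.IsCoh (F ι 𝔽 hP s c) := by
  have h1 : Coh.IsQCoh ((It P (a * c)).obj (G ι 𝔽)) := StalkTw.isQCoh_It hP hG.1 _
  exact Groth.Agent.Ega3B.DevQC.isCoh_kernel _ hG (Groth.Agent.PerfA.QCohSerre.isQCoh_cokernel _ h1 hG.1)

/-- `F ⊗ P^{am} ⊗ P^{ab} ⟶ ι_* 𝔽`. -/
noncomputable def μ (b m : ℕ) : (It P (a * b)).obj ((It P (a * m)).obj (F ι 𝔽 hP s c)) ⟶ G ι 𝔽 :=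
  (spow s b).hom hP _ ≫ (spow s m).hom hP _ ≫ j ι 𝔽 hP s c

theorem ν_ev (m : ℕ) {W : Z.Opens} {p : Γ(P, W)} (hp : IsGen P W p) (x : Γ(F ι 𝔽 hP s c, W)) :
    ((spow s m).hom hP _ ≫ j ι 𝔽 hP s c).app W (ev _ p (a * m) x) = s.c W p hp ^ m • (j ι 𝔽 hP s c).app W x := by
  change (j ι 𝔽 hP s c).app W (((spow s m).hom hP _).app W _) = _
  rw [Sec.hom_ev _ hP _ hp, spow_c, Scheme.Modules.Hom.app_smul]

theorem μ_ev (b m : ℕ) {W : Z.Opens} {p : Γ(P, W)} (hp : IsGen P W p) (x : Γ(F ι 𝔽 hP s c, W)) :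
    (μ ι 𝔽 hP s c b m).app W (ev _ p (a * b) (ev _ p (a * m) x)) =
      s.c W p hp ^ (b + m) • (j ι 𝔽 hP s c).app W x := by
  change ((spow s m).hom hP _ ≫ j ι 𝔽 hP s c).app W (((spow s b).hom hP _).app W _) = _
  rw [Sec.hom_ev _ hP _ hp, spow_c, Scheme.Modules.Hom.app_smul, ν_ev, pow_add, mul_smul]

variable (𝓘 : X.IdealSheafData) (e : ℕ)
  (hgood : ∀ (V : Z.Opens) (z : Z), z ∈ V → ∃ (W : Z.Opens) (_ : W ≤ V), z ∈ W ∧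
    ∀ (p : Γ(P, W)) (hp : IsGen P W p), Good ι 𝔽 s 𝓘 c e W p hp)

include hgood hP in
/-- local form of the sections of `F` on good opens. -/
theorem exists_good (V : Z.Opens) (y : Γ(F ι 𝔽 hP s c, V)) (z : Z) (hz : z ∈ V) (p : Γ(P, V)) (hp : IsGen P V p) :
    ∃ (W : Z.Opens) (hW : W ≤ V) (_ : z ∈ W) (w : Γ(𝔽, ι ⁻¹ᵁ W)), Good ι 𝔽 s 𝓘 c e W (res P hW p) (hp.mono hW) ∧
      (j ι 𝔽 hP s c).app W (res _ hW y) = toG ι 𝔽 (ι.app W (s.c W (res P hW p) (hp.mono hW)) ^ c • w) := by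
  obtain ⟨W, hW, hzW, w, hw⟩ := exists_local ι 𝔽 hP s c V y z hz p hp
  obtain ⟨W', hW', hzW', hg⟩ := hgood W z hzW
  refine ⟨W', hW'.trans hW, hzW', res 𝔽 (fun _ hx => hW' hx) w, hg _ _, ?_⟩
  have h1 := congrArg (res (G ι 𝔽) hW') hw
  rw [← app_res, res_res, res_toG] at h1
  rw [h1]
  congr 1
  rw [res_smul]
  have h2 := resO_app ι hW' (s.c W (res P hW p) (hp.mono hW))
  rw [s.res_c] at h2
  have h3 : s.c W' (res P hW' (res P hW p)) ((hp.mono hW).mono hW') =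
      s.c W' (res P (hW'.trans hW) p) (hp.mono (hW'.trans hW)) := s.c_congr (res_res _ _ _ _) _ _
  rw [h3] at h2
  have h4 := (map_pow (X.presheaf.map (homOfLE (show ι ⁻¹ᵁ W' ≤ ι ⁻¹ᵁ W from
    fun _ hx => hW' hx)).op).hom (ι.app W (s.c W (res P hW p) (hp.mono hW))) c).trans
    (congrArg (· ^ c) h2)
  exact congrArg (· • (res 𝔽 (show ι ⁻¹ᵁ W' ≤ ι ⁻¹ᵁ W from fun _ hx => hW' hx) w)) h4

include hgood in
theorem μ_injective (b m : ℕ) (V : Z.Opens) : Function.Injective ((μ ι 𝔽 hP s c b m).app V) := by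
  rw [injective_iff_map_eq_zero]
  intro y hy
  refine eq_of_locally _ fun z hz => ?_
  -- a good neighbourhood
  obtain ⟨V₀, hV₀, hzV₀, p, hp⟩ := exists_gen hP V z hz
  obtain ⟨y₁, hy₁⟩ := (ev_bijective _ hp (a * b)).2 (res _ hV₀ y)
  obtain ⟨x, rfl⟩ := (ev_bijective _ hp (a * m)).2 y₁
  obtain ⟨W, hW, hzW, w, hg, hw⟩ := exists_good ι 𝔽 hP s c 𝓘 e hgood V₀ x z hzV₀ p hp
  refine ⟨W, hW.trans hV₀, hzW, ?_⟩
  have h1 : (μ ι 𝔽 hP s c b m).app W (res _ (hW.trans hV₀) y) = 0 := by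
    rw [app_res, hy, res_zero]
  have h2 : res _ (hW.trans hV₀) y = ev _ (res P hW p) (a * b) (ev _ (res P hW p) (a * m) (res _ hW x)) := by
    rw [← res_res _ hV₀ hW, ← hy₁, res_ev, res_ev]
  rw [h2, μ_ev ι 𝔽 hP s c b m (hp.mono hW), hw, smul_toG, map_pow, smul_smul, ← pow_add] at h1
  have h3 : (j ι 𝔽 hP s c).app W (res _ hW x) = 0 := by
    rw [hw, hg.tors (b + m) w h1]
    rfl
  have h4 : res _ hW x = 0 := j_injective ι 𝔽 hP s c W (by rw [h3, map_zero])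
  have h5 : ∀ n (N : Z.Modules), ev N (res P hW p) n (0 : Γ(N, W)) = 0 := fun n N => by
    have := ev_smul N (res P hW p) n (0 : Γ(Z, W)) 0
    rwa [zero_smul, zero_smul] at this
  rw [h2, h4, h5, h5, res_zero]

/-- the pushforward of the inclusion of the kernel. -/
noncomputable def u {Q : X.Modules} (π : 𝔽 ⟶ Q) : (Scheme.Modules.pushforward ι).obj (kernel π) ⟶ G ι 𝔽 :=
  (Scheme.Modules.pushforward ι).map (kernel.ι π)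

theorem u_app {Q : X.Modules} (π : 𝔽 ⟶ Q) (V : Z.Opens)
    (y : Γ((Scheme.Modules.pushforward ι).obj (kernel π), V)) :
    (u ι 𝔽 π).app V y = (kernel.ι π).app (ι ⁻¹ᵁ V) y := rfl

instance mono_u {Q : X.Modules} (π : 𝔽 ⟶ Q) : Mono (u ι 𝔽 π) :=
  mono_of_injective _ fun V => Smoothlim.ModKer.app_injective_of_mono (kernel.ι π) (ι ⁻¹ᵁ V)

theorem kernel_app {Q : X.Modules} (π : 𝔽 ⟶ Q) (V : X.Opens) (y : Γ(kernel π, V)) :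
    π.app V ((kernel.ι π).app V y) = 0 :=
  congr(($(kernel.condition π)).app V y)

variable (h𝔽 : Coh.IsQCoh 𝔽)

include hgood h𝔽 in
theorem exists_θ (b m M : ℕ) (hM : e * (b + m + c) ≤ M) {Q : X.Modules} {π : 𝔽 ⟶ Q}
    (hπ : IsKQuot (𝓘 ^ M) π) :
    ∃ θ : (Scheme.Modules.pushforward ι).obj (kernel π) ⟶
      (It P (a * b)).obj ((It P (a * m)).obj (F ι 𝔽 hP s c)), θ ≫ μ ι 𝔽 hP s c b m = u ι 𝔽 π := by
  have : Mono (μ ι 𝔽 hP s c b m) := mono_of_injective _ (μ_injective ι 𝔽 hP s c 𝓘 e hgood b m)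
  refine exists_lift _ _ fun V y z hz => ?_
  obtain ⟨V₀, hV₀, hzV₀, p, hp⟩ := exists_gen hP V z hz
  obtain ⟨W, hW, hzW, hg⟩ := hgood V₀ z hzV₀
  have hg := hg (res P hW p) (hp.mono hW)
  have h1 : (u ι 𝔽 π).app W (res _ (hW.trans hV₀) y) = res _ (hW.trans hV₀) ((u ι 𝔽 π).app V y) := app_res _ _ _
  have h2 : ofG ι 𝔽 ((u ι 𝔽 π).app W (res _ (hW.trans hV₀) y)) ∈
      (𝓘 ^ M).ideal ⟨ι ⁻¹ᵁ W, hg.aff⟩ • (⊤ : Submodule Γ(X, ι ⁻¹ᵁ W) Γ(𝔽, ι ⁻¹ᵁ W)) :=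
    (FormalB.TrKQuot.IsKQuot.app_eq_zero_iff hπ h𝔽 ⟨ι ⁻¹ᵁ W, hg.aff⟩ _).1 (kernel_app 𝔽 π (ι ⁻¹ᵁ W) _)
  have h3 : (𝓘 ^ M).ideal ⟨ι ⁻¹ᵁ W, hg.aff⟩ ≤
      Ideal.span {ι.app W (s.c W (res P hW p) (hp.mono hW)) ^ (b + m + c)} := by
    rw [Scheme.IdealSheafData.ideal_pow, Pi.pow_apply, ← Ideal.span_singleton_pow]
    refine (Ideal.pow_le_pow_right hM).trans ?_
    rw [pow_mul]
    exact Ideal.pow_right_mono hg.le _
  have h4 := Submodule.smul_mono_left h3 h2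
  rw [Submodule.ideal_span_singleton_smul, Submodule.mem_smul_pointwise_iff_exists] at h4
  obtain ⟨w, -, hw⟩ := h4
  refine ⟨W, hW.trans hV₀, hzW, ev _ (res P hW p) (a * b) (ev _ (res P hW p) (a * m)
    ((q ι 𝔽 hP s c).app W (ev _ (res P hW p) (a * c) (toG ι 𝔽 w)))), ?_⟩
  rw [μ_ev ι 𝔽 hP s c b m (hp.mono hW), j_q, Sec.hom_ev _ hP _ (hp.mono hW), spow_c, ← mul_smul, ← pow_add,
    smul_toG, map_pow, hw, toG_ofG, h1]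

include hgood h𝔽 in
theorem exists_lam (m l : ℕ) (hl : l ≤ m + c) {Q : X.Modules} {π : 𝔽 ⟶ Q} (hπ : IsKQuot (𝓘 ^ l) π) :
    ∃ lam : (It P (a * m)).obj (F ι 𝔽 hP s c) ⟶ (Scheme.Modules.pushforward ι).obj (kernel π),
      lam ≫ u ι 𝔽 π = (spow s m).hom hP _ ≫ j ι 𝔽 hP s c := by
  refine exists_lift _ _ fun V y z hz => ?_
  obtain ⟨V₀, hV₀, hzV₀, p, hp⟩ := exists_gen hP V z hz
  obtain ⟨x, hx⟩ := (ev_bijective _ hp (a * m)).2 (res _ hV₀ y)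
  obtain ⟨W, hW, hzW, w, hg, hw⟩ := exists_good ι 𝔽 hP s c 𝓘 e hgood V₀ x z hzV₀ p hp
  have h2 : res _ (hW.trans hV₀) y = ev _ (res P hW p) (a * m) (res _ hW x) := by
    rw [← res_res _ hV₀ hW, ← hx, res_ev]
  have h3 : ((spow s m).hom hP _ ≫ j ι 𝔽 hP s c).app W (res _ (hW.trans hV₀) y) =
      toG ι 𝔽 (ι.app W (s.c W (res P hW p) (hp.mono hW)) ^ (m + c) • w) := by
    rw [h2, ν_ev ι 𝔽 hP s c m (hp.mono hW), hw, smul_toG, map_pow, smul_smul, ← pow_add]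
  have h4 : ι.app W (s.c W (res P hW p) (hp.mono hW)) ^ (m + c) • w ∈
      (𝓘 ^ l).ideal ⟨ι ⁻¹ᵁ W, hg.aff⟩ • (⊤ : Submodule Γ(X, ι ⁻¹ᵁ W) Γ(𝔽, ι ⁻¹ᵁ W)) := by
    refine Submodule.smul_mem_smul ?_ Submodule.mem_top
    rw [Scheme.IdealSheafData.ideal_pow, Pi.pow_apply]
    exact Ideal.pow_le_pow_right hl (Ideal.pow_mem_pow hg.mem _)
  obtain ⟨t, ht⟩ := Smoothlim.ModKer.exists_of_app_eq_zero π (ι ⁻¹ᵁ W) _
    ((FormalB.TrKQuot.IsKQuot.app_eq_zero_iff hπ h𝔽 ⟨ι ⁻¹ᵁ W, hg.aff⟩ _).2 h4)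
  refine ⟨W, hW.trans hV₀, hzW, t, ?_⟩
  rw [← app_res, h3, u_app]
  exact ht

include hgood h𝔽 in
/-- pro-vanishing on `Z`. -/
theorem exists_zero (ha : 0 < a) (i : ℕ) (hnul : Nul hP s (F ι 𝔽 hP s c) i) {Q : ℕ → X.Modules}
    {π : ∀ n, 𝔽 ⟶ Q n} (hπ : ∀ n, IsKQuot (𝓘 ^ (n + 1)) (π n)) (l : ℕ) :
    ∃ M : ℕ, l ≤ M ∧ ∀ g : kernel (π M) ⟶ kernel (π l), g ≫ kernel.ι (π l) = kernel.ι (π M) →
      mapΓ ((Scheme.Modules.pushforward ι).map g) i = 0 := by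
  obtain ⟨b, m₀, hm₀⟩ := hnul
  let m := max m₀ (l + 1)
  let M := max l (e * (b + m + c))
  have hlM : l ≤ M := le_max_left _ _
  obtain ⟨θ, hθ⟩ := exists_θ ι 𝔽 hP s c 𝓘 e hgood h𝔽 b m (M + 1)
    ((le_max_right _ _).trans (Nat.le_succ _)) (hπ M)
  obtain ⟨lam, hlam⟩ := exists_lam ι 𝔽 hP s c 𝓘 e hgood h𝔽 m (l + 1)
    (by have := le_max_right m₀ (l + 1); omega) (hπ l)
  refine ⟨M, hlM, fun g hg => ?_⟩
  have h1 : (Scheme.Modules.pushforward ι).map g = θ ≫ (spow s b).hom hP _ ≫ lam := by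
    rw [← cancel_mono (u ι 𝔽 (π l)), Category.assoc, Category.assoc, hlam]
    refine Eq.trans ?_ hθ.symm
    rw [u, ← Functor.map_comp, hg]
    rfl
  have h2 : mapΓ ((spow s b).hom hP ((It P (a * m)).obj (F ι 𝔽 hP s c))) i = 0 := by
    refine hm₀ _ ?_
    have h3 := le_max_left m₀ (l + 1)
    have h4 := Nat.le_mul_of_pos_left m ha
    omega
  rw [h1, mapΓ_comp, mapΓ_comp, h2]
  simp

end img

end K183.TransferF
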